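import Cfsg.Agent.Lib.M22Cover2.Rad

/-!
# Type M(22): two commuting members are swapped by a product of two commuting members
-/

set_option autoImplicit false

namespace Cfsg.Agent.Lib.M22Cover2

open Cfsg Cfsg.Agent.Lib.PSUAut Cfsg.Agent.Lib.ThreeTransp Cfsg.Agent.Lib.ThreeTransp.PSUSix
open Cfsg.Agent.Lib.M22Struct66

variable {F : Type} [Field F] [Fintype F]

local notation "V" => (Fin 6 → F)
local notation "B" => Cfsg.hermForm 6 F 2
local notation "SU6" => (SUType 6 F 2)
local notation "T" v:max => (tp (n := 6) (q := 2) v (1 : F) : Cfsg.PSU 6 F 2)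
local notation "tt" v:max => (eich v (0 : Fin 6 → F) (1 : F) : SUType 6 F 2)

/-- Two orthogonal isotropic points are swapped by a product of two orthogonal transvections. -/
theorem exists_swap_points (hF : Fintype.card F = 4) {p q : V} (hp : IsPt p) (hq : IsPt q) (hqp : B q p = 0)
    (hind : ∀ a : F, q ≠ a • p) :
    ∃ v v' : V, IsPt v ∧ IsPt v' ∧ B v v' = 0 ∧ (T v' * T v) * T p * (T v' * T v)⁻¹ = T q := by
  have h := herm (n := 6) (card' hF)
  obtain ⟨e, f, k, hfr, he, hq'⟩ := exists_frame_orth hF hp.1 hp.2 hq.2 hqp hind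
  obtain ⟨ω, hω⟩ := exists_omega hF
  obtain ⟨hω0, -, hω1, -, -⟩ := omega_facts hF hω
  have h2 := add_self' hF (1 : F)
  have hk : ∀ a : F, a ^ 4 = a := fun a => by rw [← hF]; exact FiniteField.pow_card a
  set u := p + q with hu
  set w := (f 0 + k ^ 2 • f 1) + f 1 with hw
  have hpu : B p u = 0 := by rw [hu, h.add_right, hp.2, orth_symm h hqp, add_zero]
  have hpw : B p w = 1 := by
    simp [hw, ← he, h.add_right, h.smul_right, hfr.ef]
  have huu : B u u = 0 := by
    simp [hu, h.add_left, h.add_right, hp.2, hq.2, hqp, orth_symm h hqp]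
  have huw : B u w = 0 := by
    simp [hu, hw, hq', ← he, h.add_left, h.add_right, h.smul_left, h.smul_right, hfr.ef, Forms.qPowHom_apply]
    linear_combination (hk k) + k * h2 + h2
  have hwu : B w u = 0 := orth_symm h huw
  have hww : B w w = 0 := by simp [hw, h.add_left, h.add_right, h.smul_left, h.smul_right, hfr.ff]
  set v := u + ω • w with hv
  set v' := u + ω ^ 2 • w with hv'
  have hvv : B v v = 0 := by simp [hv, h.add_left, h.add_right, h.smul_left, h.smul_right, huu, huw, hwu, hww]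
  have hvv' : B v' v' = 0 := by simp [hv', h.add_left, h.add_right, h.smul_left, h.smul_right, huu, huw, hwu, hww]
  have hv'v : B v v' = 0 := by simp [hv, hv', h.add_left, h.add_right, h.smul_left, h.smul_right, huu, huw, hwu, hww]
  have hpv : B p v = ω ^ 2 := by
    simp [hv, h.add_right, h.smul_right, hpu, hpw, Forms.qPowHom_apply]
  have hpv' : B p v' = ω := by
    simp [hv', h.add_right, h.smul_right, hpu, hpw, Forms.qPowHom_apply, ← pow_mul, hk ω]
  have hv0 : IsPt v := ⟨fun e0 => pow_ne_zero 2 hω0 (by rw [← hpv, e0, h.zero_right]), hvv⟩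
  have hv0' : IsPt v' := ⟨fun e0 => hω0 (by rw [← hpv', e0, h.zero_right]), hvv'⟩
  refine ⟨v, v', hv0, hv0', hv'v, ?_⟩
  have hval : act (tt v' * tt v) p = q := by
    rw [act_mul, act_t hF hvv, act_t hF hvv', hpv, h.add_left, h.smul_left, hpv', hv'v, mul_zero, add_zero]
    have e1 : p + ω ^ 2 • v + ω • v' = p + u + (ω ^ 3 + ω ^ 3) • w + (ω ^ 2 + ω + 1) • u := by
      rw [hv, hv']
      have : (ω ^ 2 + ω + 1) • u = (ω ^ 2 + ω) • u + u := by rw [add_smul, one_smul]
      rw [this]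
      have hz : u + u = 0 := vec_add_self hF u
      calc p + ω ^ 2 • (u + ω • w) + ω • (u + ω ^ 2 • w)
          = p + (ω ^ 3 + ω ^ 3) • w + (ω ^ 2 + ω) • u := by module
        _ = p + (ω ^ 3 + ω ^ 3) • w + (ω ^ 2 + ω) • u + (u + u) := by rw [hz, add_zero]
        _ = _ := by abel
    rw [e1, hω, zero_smul, add_zero, add_self' hF, zero_smul, add_zero, hu, ← add_assoc, vec_add_self hF, zero_add]
  rw [show T v' * T v = proj (tt v' * tt v) from (map_mul _ _ _).symm, conj_T hF _ hp.2, hval]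

variable {U : Type*} [Group U] [Finite U] {D : Set U}

/-- Two commuting members are swapped by an involution. -/
theorem Base.exists_swap (hB : Base D F) {d p : U} (hd : d ∈ D) (hp : p ∈ nb D d) :
    ∃ s : U, s * s = 1 ∧ s * d * s⁻¹ = p ∧ s * p * s⁻¹ = d := by
  have hF := hB.charted.card
  obtain ⟨a, ha⟩ : (com2 D d p).Nonempty := Set.nonempty_of_ncard_ne_zero (by
    rw [hB.facts.ncard_com2_commute d hd p hp]; norm_num)
  have hadm : d ∈ nb D a := ⟨hd, ha.1.2.1.symm, ha.1.2.2.symm⟩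
  have hapm : p ∈ nb D a := ⟨hp.1, ha.2.2.1.symm, ha.2.2.2.symm⟩
  obtain ⟨C⟩ := hB.charted.chart a ha.1.1
  have hX := hB.charted.toCtx
  have hind : ∀ r : F, C.pt hapm ≠ r • C.pt hadm := fun r hr => hp.2.1
    (C.eq_of_ψ_eq hF hX hapm hadm ha.1.1 (by
      have hr0 : r ≠ 0 := fun k => (C.isPt hapm).1 (by rw [hr, k, zero_smul])
      rw [C.ψ_inc, C.ψ_inc, tv, tv, hr, T_smul hF (C.isPt hadm).2 hr0]))
  obtain ⟨v, v', hv, hv', horth, hsw⟩ := exists_swap_points hF (C.isPt hadm) (C.isPt hapm)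
    ((C.commute_iff hF hX hapm hadm ha.1.1).1 hp.2.2.symm) hind
  obtain ⟨y, hy, hyψ⟩ := C.onto v hv
  obtain ⟨y', hy', hyψ'⟩ := C.onto v' hv'
  have hcom : Commute y y' := by
    rw [C.commute_iff hF hX hy hy' ha.1.1]
    obtain ⟨r, hr⟩ := T_line hF (C.isPt hy).1 (C.isPt hy).2 hv.2 ((C.ψ_inc hy).symm.trans hyψ)
    obtain ⟨r', hr'⟩ := T_line hF (C.isPt hy').1 (C.isPt hy').2 hv'.2 ((C.ψ_inc hy').symm.trans hyψ')
    have h := herm (n := 6) (card' hF)
    rw [hr, hr', h.smul_left, h.smul_right, horth, mul_zero, mul_zero]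
  have hS := hB.charted.set
  have hs2 : (y' * y) * (y' * y) = 1 := by
    rw [hcom.mul_mul_mul_comm, mul_self hS hy'.1, mul_self hS hy.1, one_mul]
  have hmem : (y' * y) * d * (y' * y)⁻¹ ∈ nb D a := by
    have := conj_mem_nb hB.charted.conj (y' * y) hadm
    rwa [show y' * y * a * (y' * y)⁻¹ = a by
      rw [(hy'.2.2.symm.mul_left hy.2.2.symm).eq, mul_inv_cancel_right]] at this
  have heq : (y' * y) * d * (y' * y)⁻¹ = p := by
    refine C.eq_of_ψ_eq hF hX hmem hapm ha.1.1 ?_
    rw [show inc hmem = (inc hy' * inc hy) * inc hadm * (inc hy' * inc hy)⁻¹ from Subtype.ext rfl,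
      map_mul, map_mul, map_inv, map_mul, hyψ, hyψ', C.ψ_inc, C.ψ_inc]
    exact hsw
  refine ⟨y' * y, hs2, heq, ?_⟩
  rw [← heq, show y' * y * (y' * y * d * (y' * y)⁻¹) * (y' * y)⁻¹ =
    (y' * y * (y' * y)) * d * (y' * y * (y' * y))⁻¹ by group, hs2, one_mul, inv_one, mul_one]

end Cfsg.Agent.Lib.M22Cover2
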