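import Cfsg.Agent.Lib.M22Cover2.Cover
import Cfsg.Agent.Lib.M22Cover2.PairSwap
import Cfsg.Agent.Lib.Fischer3T52.Radical.Levi
import Cfsg.Agent.Lib.Fischer3T60.PairParity

/-!
# The indicator of the class of `d` is no character on the preimage of a radical
-/

set_option autoImplicit false
set_option linter.unusedSectionVars false

namespace Cfsg.Agent.Lib.M22Cover2

open Cfsg Cfsg.Agent.Lib.PSUAut Cfsg.Agent.Lib.ThreeTransp Cfsg.Agent.Lib.ThreeTransp.PSUSix
open Cfsg.Agent.Lib.M22Struct66 Cfsg.Agent.Lib.Fischer3T52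
open Cfsg.Agent.Lib.Fischer3T52.Radical (rad nrad pflag uOne uTwo levi InM)
open Cfsg.Agent.Lib.Fischer3T60 (Additive')

section ULevel

variable {U : Type*} [Group U] [Finite U] {D : Set U} {F : Type} [Field F] [Fintype F]

/-- What the argument needs in the quotient. -/
structure PairFrame (D : Set U) (R R₁ R₂ W₁ W₂ H : Subgroup U) (s : U) : Prop where
  rad : IsRad D R
  rad₁ : IsRad D R₁
  rad₂ : IsRad D R₂
  le_H : R ≤ H ∧ R₁ ≤ H ∧ R₂ ≤ H
  le₁ : W₁ ≤ R₁
  le₂ : W₂ ≤ R₂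
  norm₁ : W₁ ≤ Subgroup.normalizer (R : Set U)
  norm₂ : W₂ ≤ Subgroup.normalizer (R : Set U)
  norm₂₁ : W₂ ≤ Subgroup.normalizer (W₁ : Set U)
  inter : (R ⊔ W₁) ⊓ W₂ ≤ W₁ ⊓ W₂
  sylow : Odd ((R ⊔ W₁ ⊔ W₂).relIndex H)
  sq : s * s = 1
  norm : ∀ h ∈ H, s * h * s⁻¹ ∈ H
  notMem : s ∉ H
  index : Nat.card U = 2 * 1216215 * Nat.card ↥H

theorem exists_pairFrame {D : Set U} (hB : Base D F) :
    ∃ (R R₁ R₂ W₁ W₂ H : Subgroup U) (s : U), PairFrame D R R₁ R₂ W₁ W₂ H s := by
  have hF := hB.charted.card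
  obtain ⟨d, hd⟩ : D.Nonempty := Set.nonempty_of_ncard_ne_zero (by rw [hB.facts.ncard_D]; norm_num)
  obtain ⟨C⟩ := hB.charted.chart d hd
  obtain ⟨e, f, hfr⟩ := exists_frame_any hF
  obtain ⟨p, hp, hpψ⟩ := C.onto (e 0) ⟨hfr.ne_zero_left hF 0, hfr.ee 0 0⟩
  obtain ⟨s, hs2, hsd, hsp⟩ := hB.exists_swap hd hp
  let sub : Subgroup (Cfsg.PSU 6 F 2) → Subgroup U := fun K =>
    (K.comap C.ψ).map (Subgroup.closure (nb D d)).subtype
  have hsub : ∀ K L, sub (K ⊔ L) = sub K ⊔ sub L := fun K L => by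
    show ((K ⊔ L).comap C.ψ).map _ = _
    rw [← Subgroup.comap_sup_eq C.ψ K L C.surj, Subgroup.map_sup]
  have hmem : ∀ {K : Subgroup (Cfsg.PSU 6 F 2)} (x : ↥(Subgroup.closure (nb D d))), (x : U) ∈ sub K ↔ C.ψ x ∈ K :=
    fun x => ⟨fun ⟨c', h, e⟩ => Subtype.ext (p := fun g => g ∈ Subgroup.closure (nb D d)) e ▸ h, fun h => ⟨x, h, rfl⟩⟩
  have hmono : ∀ {K L : Subgroup (Cfsg.PSU 6 F 2)}, K ≤ L → sub K ≤ sub L :=
    fun h => Subgroup.map_mono (Subgroup.comap_mono h)
  have hnorm : ∀ (K L : Subgroup (Cfsg.PSU 6 F 2)), (∀ x ∈ L, ∀ y ∈ K, x * y * x⁻¹ ∈ K) →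
      sub L ≤ Subgroup.normalizer (sub K : Set U) := by
    intro K L hKL x hx
    obtain ⟨c, hc, rfl⟩ := hx
    refine Subgroup.mem_normalizer_iff.2 fun z => ⟨?_, ?_⟩
    · rintro ⟨y, hy, rfl⟩
      refine ⟨c * y * c⁻¹, show C.ψ (c * y * c⁻¹) ∈ K from ?_, rfl⟩
      rw [map_mul, map_mul, map_inv]
      exact hKL _ hc _ hy
    · rintro ⟨y, hy, hyz⟩
      refine ⟨c⁻¹ * y * c, show C.ψ (c⁻¹ * y * c) ∈ K from ?_, ?_⟩
      · rw [map_mul, map_mul, map_inv]
        have := hKL _ (L.inv_mem hc) _ hy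
        rwa [inv_inv] at this
      · show (c : U)⁻¹ * (y : U) * c = z
        rw [show (y : U) = (c : U) * z * (c : U)⁻¹ from hyz]
        group
  set u1 := (uOne e f).map proj with hu1
  set u2 := (uTwo e f).map proj with hu2
  set H := Subgroup.centralizer ({d} : Set U) ⊓ Subgroup.centralizer ({p} : Set U) with hH
  have hone := Fischer3T52.Radical.frameOne hF hfr
  have htwo := Fischer3T52.Radical.frameTwo hF hfr
  have hin : ∀ {e' f' : Fin 3 → Fin 6 → F}, IsFrame e' f' → e' 0 = e 0 → Base.above C e' ≤ H := by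
    intro e' f' hfr' he x hx
    have hR := hB.isRad_above hd C hfr'
    have hpR : p ∈ Base.above C e' := Base.mem_above.2 ⟨Subgroup.subset_closure hp, by
      rw [show (⟨p, _⟩ : ↥(Subgroup.closure (nb D d))) = inc hp from rfl, hpψ, ← he]
      exact Fischer3T52.Radical.mem_rad_point hF hfr' (fun j => hfr'.ee 0 j)⟩
    exact ⟨Subgroup.mem_centralizer_singleton_iff.2 (comm_of_sq hR.sq hx (hB.self_above hd C e')).eq,
      Subgroup.mem_centralizer_singleton_iff.2 (comm_of_sq hR.sq hx hpR).eq⟩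
  have hflag : pflag e ≤ nrad e := Fischer3T52.Radical.pflag_le_nrad hF hfr
  have hS : Base.above C e ⊔ sub u1 ⊔ sub u2 = sub (pflag e) := by
    rw [show Base.above C e = sub (rad e) from rfl, ← hsub, ← hsub, hu1, hu2, Fischer3T52.Radical.pflag_eq hF hfr]
  -- the order of the pair stabiliser
  have hHcard : 693 * Nat.card ↥H = 18393661440 := by
    set Cd := Subgroup.centralizer ({d} : Set U) with hCd
    let _ : MulAction ↥Cd U := MulAction.compHom U (ConjAct.toConjAct.toMonoidHom.comp Cd.subtype)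
    have hsm : ∀ (n : ↥Cd) (x : U), n • x = (n : U) * x * (n : U)⁻¹ := fun n x => ConjAct.toConjAct_smul _ _
    have horb : MulAction.orbit ↥Cd p = nb D d := by
      ext y
      constructor
      · rintro ⟨n, rfl⟩
        show n • p ∈ _
        rw [hsm]
        have := conj_mem_nb hB.charted.conj (n : U) hp
        rwa [Subgroup.mem_centralizer_singleton_iff.1 n.2, mul_inv_cancel_right] at this
      · intro hy
        obtain ⟨g, hg, hgy⟩ := hB.facts.transitive_nb d hd p hp y hy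
        exact ⟨⟨g, Subgroup.mem_centralizer_singleton_iff.2 hg.eq⟩, (hsm _ p).trans hgy⟩
    have h1 := Subgroup.card_mul_index (MulAction.stabilizer ↥Cd p)
    have hcd : Nat.card ↥Cd = 18393661440 := hB.facts.card_centralizer d hd
    rw [MulAction.index_stabilizer, horb, hB.facts.ncard_nb d hd, hcd, mul_comm] at h1
    rw [← h1]
    congr 1
    refine Nat.card_congr ⟨fun x => ⟨⟨x.1, x.2.1⟩, ?_⟩, fun x => ⟨x.1.1, x.1.2, ?_⟩, ?_, ?_⟩
    · rw [MulAction.mem_stabilizer_iff, hsm]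
      exact mul_inv_eq_iff_eq_mul.2 (Subgroup.mem_centralizer_singleton_iff.1 x.2.2)
    · have h := MulAction.mem_stabilizer_iff.1 x.2
      rw [hsm] at h
      exact Subgroup.mem_centralizer_singleton_iff.2 (mul_inv_eq_iff_eq_mul.1 h)
    · intro x; rfl
    · intro x; rfl
  refine ⟨Base.above C e, Base.above C ![e 0, f 1, f 2], Base.above C ![e 0, e 1, f 2], sub u1, sub u2, H, s,
    hB.isRad_above hd C hfr, hB.isRad_above hd C hone, hB.isRad_above hd C htwo,
    ⟨hin hfr rfl, hin hone rfl, hin htwo rfl⟩, hmono (Fischer3T52.Radical.uOne_le_rad hF hfr),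
    hmono (Fischer3T52.Radical.uTwo_le_rad hF hfr),
    hnorm _ _ fun x hx y hy => Fischer3T52.Radical.conj_rad hF hfr (hflag ((Fischer3T52.Radical.u_le_pflag hF hfr).1 hx)) hy,
    hnorm _ _ fun x hx y hy => Fischer3T52.Radical.conj_rad hF hfr (hflag ((Fischer3T52.Radical.u_le_pflag hF hfr).2 hx)) hy,
    hnorm _ _ ?_, ?_, ?_, hs2, ?_, ?_, ?_⟩
  · rintro _ ⟨a, ha, rfl⟩ _ ⟨b, hb, rfl⟩
    exact ⟨a * b * a⁻¹, Fischer3T52.Radical.conj_uOne hF hfr ha.1 hb, by simp⟩
  · rw [show Base.above C e = sub (rad e) from rfl, ← hsub]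
    rintro x ⟨⟨c, hc, rfl⟩, hx2⟩
    have hc2 := (hmem c).1 hx2
    exact ⟨(hmem c).2 (Fischer3T52.Radical.inter_le hF hfr ⟨hc, hc2⟩).1, hx2⟩
  · have hle : Base.above C e ⊔ sub u1 ⊔ sub u2 ≤ H := sup_le (sup_le (hin hfr rfl)
      ((hmono (Fischer3T52.Radical.uOne_le_rad hF hfr)).trans (hin hone rfl)))
      ((hmono (Fischer3T52.Radical.uTwo_le_rad hF hfr)).trans (hin htwo rfl))
    have hcard : Nat.card ↥(Base.above C e ⊔ sub u1 ⊔ sub u2 : Subgroup U) = 65536 := by
      rw [hS]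
      show Nat.card ↥(((pflag e).comap C.ψ).map _) = _
      rw [Subgroup.card_map_of_injective Subtype.val_injective]
      have e3 := Subgroup.card_mul_index ((pflag e).comap C.ψ)
      have hcH : Nat.card ↥(Subgroup.closure (nb D d)) = 18393661440 := by
        rw [← hB.facts.centralizer_eq d hd, hB.facts.card_centralizer d hd]
      rw [Subgroup.index_comap_of_surjective _ C.surj, hcH] at e3
      have e4 := Subgroup.card_mul_index (pflag e)
      rw [Fischer3T52.Radical.card_pflag hF hfr, card_psu6 hF] at e4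
      rw [show (pflag e).index = 280665 by omega] at e3
      omega
    have h1 := Subgroup.card_mul_index ((Base.above C e ⊔ sub u1 ⊔ sub u2).subgroupOf H)
    rw [Nat.card_congr (Subgroup.subgroupOfEquivOfLe hle).toEquiv, hcard] at h1
    rw [Subgroup.relIndex, show ((Base.above C e ⊔ sub u1 ⊔ sub u2).subgroupOf H).index = 405 by omega]
    decide
  · intro h hh
    refine ⟨Subgroup.mem_centralizer_singleton_iff.2 ?_, Subgroup.mem_centralizer_singleton_iff.2 ?_⟩
    · have := ((commute_conj_iff s).2 (show Commute h p from Subgroup.mem_centralizer_singleton_iff.1 hh.2)).eq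
      rwa [hsp] at this
    · have := ((commute_conj_iff s).2 (show Commute h d from Subgroup.mem_centralizer_singleton_iff.1 hh.1)).eq
      rwa [hsd] at this
  · intro hsH
    have h1 := Subgroup.mem_centralizer_singleton_iff.1 hsH.1
    rw [h1, mul_inv_cancel_right] at hsd
    exact hp.2.1 hsd.symm
  · rw [hB.facts.card_G]
    omega

end ULevel

namespace Setup22

variable {G : Type*} [Group G] [Finite G] {d : G} {U : Type*} [Group U] [Finite U] {D : Set U} {F : Type}
  [Field F] [Fintype F] {π : ↥(Subgroup.centralizer ({d} : Set G)) →* U} {hB : Base D F}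

theorem lift22_sup (hS : Setup22 π hB) (H K : Subgroup U) : lift22 π (H ⊔ K) = lift22 π H ⊔ lift22 π K := by
  rw [lift22, ← Subgroup.comap_sup_eq π H K hS.cover.surj, Subgroup.map_sup]
  rfl

theorem lift22_mono {H K : Subgroup U} (h : H ≤ K) : lift22 π H ≤ lift22 π K :=
  Subgroup.map_mono (Subgroup.comap_mono h)

/-- The indicator of `d^G` is no character on the preimage of a radical. -/
theorem not_additive (hS : Setup22 π hB) (hperf : commutator ↥(Subgroup.centralizer ({d} : Set G)) = ⊤)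
    {R₀ : Subgroup U} (hR₀ : IsRad D R₀) : ¬ Additive' d (lift22 π R₀) := by
  intro hadd₀
  obtain ⟨R, R₁, R₂, W₁, W₂, H, s, hP⟩ := exists_pairFrame hB
  -- every preimage of a radical carries the character
  have haddR : ∀ {X : Subgroup U}, IsRad D X → Additive' d (lift22 π X) := fun hX => by
    obtain ⟨c, -, hc⟩ := hS.exists_conj_lift hR₀ (hS.d_mem _) (hS.lift_sq hX) (hS.card_lift hX)
    exact hadd₀.of_conj hc
  set M : Set G := {x | ∃ c, π c ∈ D ∧ π c ∈ H ∧ ((c : ↥(Subgroup.centralizer ({d} : Set G))) : G) = x ∧ IsConj d x}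
  have hgenX : ∀ {X : Subgroup U}, IsRad D X → X ≤ H → lift22 π X ≤ Subgroup.closure (insert d M) := by
    intro X hX hXH
    rintro _ ⟨c, hc, rfl⟩
    have hle : Subgroup.closure {c | π c ∈ D ∧ π c ∈ X} ≤
        (Subgroup.closure (insert d M)).comap (Subgroup.centralizer ({d} : Set G)).subtype := by
      refine (Subgroup.closure_le _).2 fun b hb => ?_
      have hdm : d ∈ Subgroup.closure (insert d M) := Subgroup.subset_closure (Set.mem_insert _ _)
      by_cases hc' : IsConj d (b : G)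
      · exact Subgroup.subset_closure (Or.inr ⟨b, hb.1, hXH hb.2, rfl, hc'⟩)
      · have hbd : IsConj d ((b : G) * d) := ((haddR hX) _ (coe_mem_lift22.2 hb.2) d (hS.d_mem _)).2
          fun h => hc' (h.2 (IsConj.refl d))
        have hπ : π (b * zc d) = π b := by rw [map_mul, hS.cover.map_z, mul_one]
        have hm : (b : G) * d ∈ Subgroup.closure (insert d M) :=
          Subgroup.subset_closure (Or.inr ⟨b * zc d, by rw [hπ]; exact hb.1, by rw [hπ]; exact hXH hb.2, rfl, hbd⟩)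
        show (b : G) ∈ Subgroup.closure (insert d M)
        have h2 := mul_mem hm hdm
        rwa [mul_assoc, hS.sq, mul_one] at h2
    exact hle (hS.comap_le_closure hX hc)
  have hnorm : ∀ {K L : Subgroup U}, L ≤ Subgroup.normalizer (K : Set U) →
      lift22 π L ≤ Subgroup.normalizer (lift22 π K : Set G) := by
    intro K L hKL x hx
    obtain ⟨c, hc, rfl⟩ := hx
    refine Subgroup.mem_normalizer_iff.2 fun z => ⟨?_, ?_⟩
    · rintro ⟨y, hy, rfl⟩
      refine ⟨c * y * c⁻¹, show π (c * y * c⁻¹) ∈ K from ?_, rfl⟩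
      rw [map_mul, map_mul, map_inv]
      exact (Subgroup.mem_normalizer_iff.1 (hKL hc) _).1 hy
    · rintro ⟨y, hy, hyz⟩
      refine ⟨c⁻¹ * y * c, show π (c⁻¹ * y * c) ∈ K from (Subgroup.mem_normalizer_iff.1 (hKL hc) _).2 ?_, ?_⟩
      · rw [map_mul, map_mul, map_inv, show π c * ((π c)⁻¹ * π y * π c) * (π c)⁻¹ = π y by group]
        exact hy
      · show (c : G)⁻¹ * (y : G) * c = z
        rw [show (y : G) = (c : G) * z * (c : G)⁻¹ from hyz]
        group
  obtain ⟨t, ht⟩ := hS.cover.surj s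
  have ht2 : t * t = 1 := by
    have hs1 : s ≠ 1 := fun h => hP.notMem (h ▸ H.one_mem)
    obtain ⟨t', ho, ht'⟩ := (lift_m22 hB.charted.grp hB.m22 hS.cover hS.zc_ne fun x hx => by
        obtain ⟨m, -, -, l, -, -, hl, hlc, hlp⟩ := hB.facts.exists_commProd x hx
        exact ⟨l, hl, hlc, hlp⟩).1 s (orderOf_eq_prime (by rw [pow_two, hP.sq]) hs1)
    have h2 : t' * t' = 1 := by rw [← pow_two, ← ho]; exact pow_orderOf_eq_one t'
    rcases hS.cover.eq_or t t' (ht.trans ht'.symm) with rfl | rfl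
    · exact h2
    · rw [(hS.cover.commute_z t').symm.mul_mul_mul_comm, h2, hS.cover.sq, one_mul]
  have htd := Subgroup.mem_centralizer_singleton_iff.1 t.2
  have hH₃C : lift22 π H ≤ Subgroup.centralizer ({d} : Set G) := by rintro _ ⟨c, -, rfl⟩; exact c.2
  have htn : (t : G) ∈ Subgroup.normalizer (lift22 π H : Set G) :=
    hnorm (L := Subgroup.zpowers s) (Subgroup.zpowers_le.2 (Subgroup.mem_normalizer_iff.2 fun y =>
      ⟨hP.norm y, fun hy => by
        have := hP.norm _ hy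
        rwa [show s * (s * y * s⁻¹) * s⁻¹ = (s * s) * y * (s * s)⁻¹ by group, hP.sq, one_mul, inv_one, mul_one]
          at this⟩))
      (coe_mem_lift22.2 (ht ▸ Subgroup.mem_zpowers s))
  refine Fischer3T60.no_character_pair (d := d) (A := lift22 π R) (U₁ := lift22 π W₁) (U₂ := lift22 π W₂)
    (C₃ := lift22 π H) (M := M) (s := (t : G)) (hS.d_mem _) (hS.lift_sq hP.rad) ?_ ?_ (hnorm hP.norm₁)
    (hnorm hP.norm₂) (hnorm hP.norm₂₁) ?_ hH₃C ?_ ?_ ?_ ?_ ?_ ?_ ?_ htd htn
    ?_ ?_ ?_ hperf (haddR hP.rad)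
  · obtain ⟨c, hcd, hc⟩ := hS.exists_conj_lift hP.rad (hS.d_mem R₁) (hS.lift_sq hP.rad₁) (hS.card_lift hP.rad₁)
    exact ⟨c, hcd, fun u hu => hc u (lift22_mono hP.le₁ hu)⟩
  · obtain ⟨c, hcd, hc⟩ := hS.exists_conj_lift hP.rad (hS.d_mem R₂) (hS.lift_sq hP.rad₂) (hS.card_lift hP.rad₂)
    exact ⟨c, hcd, fun u hu => hc u (lift22_mono hP.le₂ hu)⟩
  · rw [← lift22_sup hS]
    rintro x ⟨⟨c, hc, rfl⟩, hx2⟩
    exact Subgroup.mem_sup_right ⟨coe_mem_lift22.2 (hP.inter ⟨hc, coe_mem_lift22.1 hx2⟩).1, hx2⟩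
  · exact sup_le (sup_le (lift22_mono hP.le_H.1) ((lift22_mono hP.le₁).trans (lift22_mono hP.le_H.2.1)))
      ((lift22_mono hP.le₂).trans (lift22_mono hP.le_H.2.2))
  · rw [← lift22_sup hS, ← lift22_sup hS, lift22, lift22, Subgroup.relIndex_map_map_of_injective _ _ Subtype.val_injective,
      Subgroup.relIndex_comap, Subgroup.map_comap_eq_self_of_surjective hS.cover.surj]
    exact hP.sylow
  · exact sup_le (sup_le (hgenX hP.rad hP.le_H.1) ((lift22_mono hP.le₁).trans (hgenX hP.rad₁ hP.le_H.2.1)))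
      ((lift22_mono hP.le₂).trans (hgenX hP.rad₂ hP.le_H.2.2))
  · rintro _ ⟨c, hc, hcH, rfl, hconj⟩
    exact ⟨coe_mem_lift22.2 hcH, congrArg Subtype.val (m22_sq hB.charted.grp hB.m22 hS.cover hc c rfl), hconj⟩
  · rintro _ ⟨g, hg, rfl⟩ _ ⟨c, hc, hcH, rfl, hconj⟩
    refine ⟨g * c * g⁻¹, ?_, ?_, rfl, hconj.trans (isConj_iff.2 ⟨(g : G), rfl⟩)⟩
    · rw [map_mul, map_mul, map_inv]; exact hB.conjD _ hc
    · rw [map_mul, map_mul, map_inv]; exact H.mul_mem (H.mul_mem hg hcH) (H.inv_mem hg)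
  · rintro _ ⟨c, hc, hcH, rfl, -⟩ hcS
    rw [← lift22_sup hS, ← lift22_sup hS, coe_mem_lift22] at hcS
    exact coe_mem_lift22.2 (hB.mem_of_normalizes hP.rad hc
      ((sup_le (sup_le Subgroup.le_normalizer hP.norm₁) hP.norm₂) hcS))
  · exact congrArg Subtype.val ht2
  · intro h
    exact hP.notMem (ht ▸ coe_mem_lift22.1 h)
  · rintro _ ⟨c, hc, hcH, rfl, hconj⟩
    refine ⟨t * c * t⁻¹, ?_, ?_, rfl, hconj.trans (isConj_iff.2 ⟨(t : G), rfl⟩)⟩
    · rw [map_mul, map_mul, map_inv]; exact hB.conjD _ hc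
    · rw [map_mul, map_mul, map_inv, ht]; exact hP.norm _ hcH
  · set C₃ := lift22 π H with hC₃
    set K := C₃ ⊔ Subgroup.zpowers (t : G)
    have htt : (t : G) * t = 1 := congrArg Subtype.val ht2
    have hcoe : (K : Set G) ⊆ (C₃ : Set G) ∪ (fun z => z * (t : G)) '' (C₃ : Set G) := by
      rw [Subgroup.coe_mul_of_right_le_normalizer_left _ _ (Subgroup.zpowers_le.2 htn)]
      rintro _ ⟨x, hx, y, ⟨k, rfl⟩, rfl⟩
      rcases Int.even_or_odd k with ⟨j, rfl⟩ | ⟨j, rfl⟩
      · left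
        show x * (t : G) ^ (j + j) ∈ C₃
        rw [← two_mul, zpow_mul, zpow_two, htt, one_zpow, mul_one]; exact hx
      · right
        refine ⟨x, hx, ?_⟩
        show x * (t : G) = x * (t : G) ^ (2 * j + 1)
        rw [zpow_add, zpow_mul, zpow_two, htt, one_zpow, one_mul, zpow_one]
    have hK1 : Nat.card ↥K ≤ 2 * Nat.card ↥C₃ := by
      rw [← SetLike.coe_sort_coe K, ← SetLike.coe_sort_coe C₃, Nat.card_coe_set_eq, Nat.card_coe_set_eq]
      refine (Set.ncard_le_ncard hcoe).trans ((Set.ncard_union_le _ _).trans ?_)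
      rw [Set.ncard_image_of_injective _ (mul_left_injective _)]
      omega
    have hK2 := two_mul_le (Y := C₃) (X := K) le_sup_left (Subgroup.mem_sup_right (Subgroup.mem_zpowers _))
      fun h => hP.notMem (ht ▸ coe_mem_lift22.1 h)
    have hKC : K ≤ Subgroup.centralizer ({d} : Set G) := sup_le hH₃C (Subgroup.zpowers_le.2 t.2)
    have hKcard : Nat.card ↥K = 2 * (2 * Nat.card ↥H) := by rw [← hS.card_lift22 H, ← hC₃]; omega
    have hCcard : Nat.card ↥(Subgroup.centralizer ({d} : Set G)) = 2 * (2 * 1216215 * Nat.card ↥H) := by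
      rw [← Subgroup.card_mul_index π.ker, hS.card_ker, Subgroup.index_ker,
        MonoidHom.range_eq_top.2 hS.cover.surj, Subgroup.card_top, hP.index]
    have h1 := Subgroup.card_mul_index (K.subgroupOf (Subgroup.centralizer ({d} : Set G)))
    rw [Nat.card_congr (Subgroup.subgroupOfEquivOfLe hKC).toEquiv, hKcard, hCcard] at h1
    have hpos : 0 < Nat.card ↥H := Nat.card_pos
    rw [Subgroup.relIndex, show (K.subgroupOf (Subgroup.centralizer ({d} : Set G))).index = 1216215 by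
      refine Nat.eq_of_mul_eq_mul_left (show 0 < 2 * (2 * Nat.card ↥H) by omega) ?_
      rw [h1]; ring]
    decide

end Setup22

end Cfsg.Agent.Lib.M22Cover2
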