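import Mathlib

/-!
# Automorphisms of prime order of a group of order `2^11`, and a Sylow count
-/

set_option autoImplicit false

namespace Cfsg.Agent.Lib.M22Cover2

variable {M : Type*} [Group M]

/-- The fixed points of an automorphism. -/
def fixSub (φ : MulAut M) : Subgroup M := (φ : M →* M).eqLocus (MonoidHom.id M)

theorem mem_fixSub {φ : MulAut M} {m : M} : m ∈ fixSub φ ↔ φ m = m := Iff.rfl

theorem fixSub_eq_top {φ : MulAut M} (h : fixSub φ = ⊤) : φ = 1 :=
  MulEquiv.ext fun m => mem_fixSub.1 (h ▸ Subgroup.mem_top m)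

theorem pow_mem_fixSub {φ : MulAut M} {m : M} (h : φ m = m) (g : MulAut M)
    (hg : g ∈ Subgroup.zpowers φ) : g m = m := by
  obtain ⟨k, rfl⟩ := Subgroup.mem_zpowers_iff.1 hg
  have : φ ∈ MulAction.stabilizer (MulAut M) m := MulAction.mem_stabilizer_iff.2 h
  exact MulAction.mem_stabilizer_iff.1 ((MulAction.stabilizer (MulAut M) m).zpow_mem this k)

theorem zpowers_pGroup {φ : MulAut M} {p : ℕ} [Fact p.Prime] (h : orderOf φ = p) :
    IsPGroup p ↥(Subgroup.zpowers φ) :=
  IsPGroup.of_card (n := 1) (by rw [Nat.card_zpowers, h, pow_one])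

/-- The fixed points in a stable set have its cardinality modulo the order. -/
theorem ncard_modEq_fix [Finite M] {φ : MulAut M} {p : ℕ} [Fact p.Prime] (h : orderOf φ = p)
    (s : Set M) (hs : ∀ g ∈ Subgroup.zpowers φ, ∀ m ∈ s, g m ∈ s) :
    s.ncard ≡ (s ∩ (fixSub φ : Set M)).ncard [MOD p] := by
  let _ : MulAction ↥(Subgroup.zpowers φ) ↥s :=
    { smul := fun g m => ⟨(g : MulAut M) m, hs g g.2 m m.2⟩
      one_smul := fun m => Subtype.ext rfl
      mul_smul := fun g k m => Subtype.ext rfl }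
  have key := (zpowers_pGroup h).card_modEq_card_fixedPoints ↥s
  have e : Nat.card (MulAction.fixedPoints ↥(Subgroup.zpowers φ) ↥s)
      = (s ∩ (fixSub φ : Set M)).ncard := by
    rw [← Nat.card_coe_set_eq]
    refine Nat.card_congr ⟨fun x => ⟨x.1.1, x.1.2, ?_⟩, fun x => ⟨⟨x.1, x.2.1⟩, fun g => ?_⟩, ?_, ?_⟩
    · exact congrArg Subtype.val (x.2 ⟨φ, Subgroup.mem_zpowers φ⟩)
    · exact Subtype.ext (pow_mem_fixSub x.2.2 g g.2)
    · intro x; rfl
    · intro x; rfl
  rw [e, Nat.card_coe_set_eq] at key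
  exact key

/-- The fixed subgroup has order `2^f` with `f < 11` and `2^11 ≡ 2^f`. -/
theorem exists_fix_exp [Finite M] (hM : Nat.card M = 2 ^ 11) {φ : MulAut M} {p : ℕ} [Fact p.Prime]
    (h : orderOf φ = p) :
    ∃ f, f < 11 ∧ Nat.card ↥(fixSub φ) = 2 ^ f ∧ 2 ^ 11 ≡ 2 ^ f [MOD p] := by
  obtain ⟨f, hf, hcard⟩ := (Nat.dvd_prime_pow Nat.prime_two).1
    (hM ▸ Subgroup.card_subgroup_dvd_card (fixSub φ))
  refine ⟨f, ?_, hcard, ?_⟩
  · refine lt_of_le_of_ne hf fun hf' => ?_
    subst hf'
    have htop : fixSub φ = ⊤ := Subgroup.eq_top_of_card_eq _ (hcard.trans hM.symm)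
    rw [fixSub_eq_top htop, orderOf_one] at h
    exact (Fact.out : p.Prime).one_lt.ne h
  · have := ncard_modEq_fix h (Set.univ : Set M) (fun _ _ _ _ => Set.mem_univ _)
    rw [Set.univ_inter, Set.ncard_univ, hM, ← Nat.card_coe_set_eq] at this
    rwa [SetLike.coe_sort_coe, hcard] at this

/-- Which exponents occur. -/
theorem exists_pow_mod [Finite M] (hM : Nat.card M = 2 ^ 11) {φ : MulAut M} {p : ℕ} [Fact p.Prime]
    (h : orderOf φ = p) : ∃ f < 11, 2 ^ 11 % p = 2 ^ f % p := by
  obtain ⟨f, hf, -, hmod⟩ := exists_fix_exp hM h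
  exact ⟨f, hf, hmod⟩

/-- An element commuting with a fixed point free element of order `23` or `89` has order made of
`23` and `89`. -/
theorem prime_of_commute [Finite M] (hM : Nat.card M = 2 ^ 11) {g h : MulAut M} {p r : ℕ} [Fact p.Prime]
    [Fact r.Prime] (hg : orderOf g = p) (hh : orderOf h = r) (hfix : fixSub g = ⊥)
    (hp : ∀ f < 11, 2 ^ f % p = 1 → f = 0) (hgh : g * h = h * g) : r = 23 ∨ r = 89 := by
  obtain ⟨f, hf, hcard, hmod⟩ := exists_fix_exp hM hh
  have hst : ∀ k ∈ Subgroup.zpowers g, ∀ m ∈ (fixSub h : Set M), k m ∈ (fixSub h : Set M) := by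
    intro k hk m hm
    have hkh : Commute h k := by
      obtain ⟨n, rfl⟩ := Subgroup.mem_zpowers_iff.1 hk
      exact (show Commute h g from hgh.symm).zpow_right n
    show h (k m) = k m
    calc h (k m) = (h * k) m := rfl
      _ = (k * h) m := by rw [hkh.eq]
      _ = k (h m) := rfl
      _ = k m := by rw [show h m = m from hm]
  have h1 := ncard_modEq_fix hg (fixSub h : Set M) hst
  have h2 : ((fixSub h : Set M) ∩ (fixSub g : Set M)) = {1} := by
    rw [hfix]; ext x
    simp only [Subgroup.coe_bot, Set.mem_inter_iff, Set.mem_singleton_iff, SetLike.mem_coe]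
    exact ⟨fun hx => hx.2, fun hx => ⟨hx ▸ one_mem _, hx⟩⟩
  rw [h2, Set.ncard_singleton, ← Nat.card_coe_set_eq, SetLike.coe_sort_coe, hcard] at h1
  have hp1 : 1 < p := (Fact.out : p.Prime).one_lt
  have hf0 : f = 0 := hp f hf (by rw [h1, Nat.mod_eq_of_lt hp1])
  subst hf0
  have hd : r ∣ 23 * 89 := by
    have := (Nat.modEq_iff_dvd' (by norm_num)).1 hmod.symm
    simpa using this
  rcases (Fact.out : r.Prime).dvd_mul.1 hd with h' | h'
  · exact Or.inl ((Nat.prime_dvd_prime_iff_eq Fact.out (by norm_num)).1 h')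
  · exact Or.inr ((Nat.prime_dvd_prime_iff_eq Fact.out (by norm_num)).1 h')

/-- The Sylow count: with a self-paired prime `p`, the group order is `i m c`. -/
theorem exists_sylow_count {X : Type*} [Group X] [Finite X] {p k : ℕ} [Fact p.Prime]
    (hX : Nat.card X = p * k) (hk : ¬ p ∣ k) :
    ∃ g : X, orderOf g = p ∧ ∃ i m : ℕ, i % p = 1 ∧ m ∣ p - 1 ∧
      p * k = i * m * Nat.card ↥(Subgroup.centralizer ({g} : Set X)) := by
  have hp : p.Prime := Fact.out
  obtain ⟨g, hg⟩ := exists_prime_orderOf_dvd_card' (G := X) p ⟨k, hX⟩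
  refine ⟨g, hg, ?_⟩
  have hcard : Nat.card ↥(Subgroup.zpowers g) = p ^ (Nat.card X).factorization p := by
    have hk0 : k ≠ 0 := fun h => hk (h ▸ dvd_zero p)
    rw [Nat.card_zpowers, hg, hX, Nat.factorization_mul hp.ne_zero hk0, Finsupp.add_apply,
      hp.factorization_self, Nat.factorization_eq_zero_of_not_dvd hk, add_zero, pow_one]
  let P : Sylow p X := Sylow.ofCard (Subgroup.zpowers g) hcard
  have hP : (P : Subgroup X) = Subgroup.zpowers g := rfl
  set N := Subgroup.normalizer ((Subgroup.zpowers g : Subgroup X) : Set X) with hN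
  set C := Subgroup.centralizer ({g} : Set X) with hC
  have hCN : C ≤ N := by
    intro x hx
    have hxg : x * g = g * x := Subgroup.mem_centralizer_singleton_iff.1 hx
    rw [hN, Subgroup.mem_normalizer_iff]
    intro y
    have hc : ∀ y ∈ Subgroup.zpowers g, x * y * x⁻¹ = y := by
      intro y hy
      obtain ⟨n, rfl⟩ := Subgroup.mem_zpowers_iff.1 hy
      have : Commute x (g ^ n) := (show Commute x g from hxg).zpow_right n
      rw [this.eq, mul_inv_cancel_right]
    constructor
    · intro hy; rwa [hc y hy]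
    · intro hy
      have h2 := hc _ hy
      have : x * y * x⁻¹ = y := mul_left_cancel (mul_right_cancel (h2.trans (by group)))
      rwa [this] at hy
  refine ⟨N.index, C.relIndex N, ?_, ?_, ?_⟩
  · have h1 := card_sylow_modEq_one p X
    rw [Sylow.card_eq_index_normalizer P] at h1
    exact Eq.trans h1 (Nat.mod_eq_of_lt hp.one_lt)
  · have e0 : Subgroup.centralizer ((Subgroup.zpowers g : Subgroup X) : Set X) = C := by
      rw [hC, Subgroup.zpowers_eq_closure, Subgroup.centralizer_closure]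
    have e : ((Subgroup.zpowers g).normalizerMonoidHom).ker = C.subgroupOf N :=
      (Subgroup.normalizerMonoidHom_ker _).trans (congrArg (fun H => Subgroup.subgroupOf H N) e0)
    rw [Subgroup.relIndex, ← e, Subgroup.index_ker]
    refine (Subgroup.card_subgroup_dvd_card _).trans ?_
    rw [IsCyclic.card_mulAut, Nat.card_zpowers, hg, Nat.totient_prime hp]
  · rw [← hX, mul_assoc, mul_comm (C.relIndex N), ← Subgroup.card_mul_index N, mul_comm]
    congr 1
    rw [Subgroup.relIndex, ← Subgroup.card_mul_index (C.subgroupOf N),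
      Nat.card_congr (Subgroup.subgroupOfEquivOfLe hCN).toEquiv]

end Cfsg.Agent.Lib.M22Cover2
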