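import Cfsg.Agent.Lib.M22Cover2.Frame
import Cfsg.Agent.Lib.M22Cover2.Aut

/-!
# The automorphisms induced on `A` by its normaliser
-/

set_option autoImplicit false

namespace Cfsg.Agent.Lib.M22Cover2.CountData

variable {G : Type*} [Group G] [Finite G] {d : G} {A : Subgroup G} {cls : Fin 3 → Set G}

/-- The automizer of `A`. -/
noncomputable def automizer (A : Subgroup G) : Subgroup (MulAut ↥A) := A.normalizerMonoidHom.range

theorem orbit_count (hD : CountData d A cls) :
    Nat.card ↥(Subgroup.normalizer (A : Set G)) = (fusedSet d A).ncard * (2 ^ 11 * 443520) := by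
  set N := Subgroup.normalizer (A : Set G) with hN
  let _ : MulAction ↥N G := MulAction.compHom G (ConjAct.toConjAct.toMonoidHom.comp N.subtype)
  have hsm : ∀ (n : ↥N) (x : G), n • x = (n : G) * x * (n : G)⁻¹ := fun n x => ConjAct.toConjAct_smul _ _
  have horb : MulAction.orbit ↥N d = fusedSet d A := by
    ext x
    constructor
    · rintro ⟨n, rfl⟩
      show n • d ∈ _
      rw [hsm]
      exact conj_mem n.2 hD.self_mem
    · intro hx
      obtain ⟨n, hn, hnx⟩ := hD.trans x hx.1 hx.2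
      refine ⟨⟨n⁻¹, inv_mem hn⟩, ?_⟩
      show (⟨n⁻¹, inv_mem hn⟩ : ↥N) • d = x
      rw [hsm, ← hnx]; group
  have hst : Nat.card ↥(MulAction.stabilizer ↥N d) = 2 ^ 11 * 443520 := by
    rw [← hD.stab, ← hN]
    refine Nat.card_congr ⟨fun x => ⟨x.1.1, ?_, x.1.2⟩, fun x => ⟨⟨x.1, x.2.2⟩, ?_⟩, ?_, ?_⟩
    · have h := MulAction.mem_stabilizer_iff.1 x.2
      rw [hsm] at h
      exact Subgroup.mem_centralizer_singleton_iff.2 (mul_inv_eq_iff_eq_mul.1 h)
    · refine MulAction.mem_stabilizer_iff.2 ?_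
      rw [hsm]
      exact mul_inv_eq_iff_eq_mul.2 (Subgroup.mem_centralizer_singleton_iff.1 x.2.1)
    · intro x; rfl
    · intro x; rfl
  rw [← horb, ← MulAction.index_stabilizer, ← hst, mul_comm, Subgroup.card_mul_index]

theorem card_automizer (hD : CountData d A cls) :
    Nat.card ↥(automizer A) = (fusedSet d A).ncard * 443520 := by
  set N := Subgroup.normalizer (A : Set G) with hN
  have hker : A.normalizerMonoidHom.ker = A.subgroupOf N := by
    rw [Subgroup.normalizerMonoidHom_ker]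
    ext x
    simp only [Subgroup.mem_subgroupOf]
    refine ⟨fun h => hD.self _ fun a ha => (Subgroup.mem_centralizer_iff.1 h a ha).symm, fun h => ?_⟩
    exact Subgroup.mem_centralizer_iff.2 fun a ha => hD.comm ha h
  have h1 := Subgroup.card_mul_index A.normalizerMonoidHom.ker
  rw [Subgroup.index_ker, hker, Nat.card_congr (Subgroup.subgroupOfEquivOfLe Subgroup.le_normalizer).toEquiv,
    hD.card, hD.orbit_count] at h1
  show Nat.card ↥A.normalizerMonoidHom.range = _
  have h2 : 2 ^ 11 * Nat.card ↥A.normalizerMonoidHom.range = 2 ^ 11 * ((fusedSet d A).ncard * 443520) := by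
    rw [h1]; ring
  exact Nat.eq_of_mul_eq_mul_left (by norm_num) h2

theorem automizer_stable {φ : MulAut ↥A} (hφ : φ ∈ automizer A) (m : ↥A) :
    (φ m : G) ∈ fusedSet d A ↔ (m : G) ∈ fusedSet d A := by
  obtain ⟨n, rfl⟩ := hφ
  exact conj_mem_iff n.2

theorem zpowers_stable {φ : MulAut ↥A} (hφ : φ ∈ automizer A) (g : MulAut ↥A)
    (hg : g ∈ Subgroup.zpowers φ) (m : ↥A) :
    (g m : G) ∈ fusedSet d A ↔ (m : G) ∈ fusedSet d A :=
  automizer_stable ((Subgroup.zpowers_le.2 hφ) hg) m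

theorem exists_order (hD : CountData d A cls) {p : ℕ} [Fact p.Prime] (hp : p ∣ (fusedSet d A).ncard) :
    ∃ φ ∈ automizer A, orderOf φ = p := by
  obtain ⟨x, hx⟩ := exists_prime_orderOf_dvd_card' (G := ↥(automizer A)) p
    (hD.card_automizer ▸ dvd_mul_of_dvd_left hp _)
  exact ⟨x, x.2, (Subgroup.orderOf_coe x).trans hx⟩

theorem prime_spec (hD : CountData d A cls) (p : ℕ) (hp : p.Prime) (h : p ∣ (fusedSet d A).ncard) :
    ∃ f < 11, 2 ^ 11 % p = 2 ^ f % p := by
  have : Fact p.Prime := ⟨hp⟩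
  obtain ⟨φ, -, hφ⟩ := hD.exists_order h
  exact exists_pow_mod (M := ↥A) hD.card hφ

/-- The Sylow count for a fixed point free element of order `23` or `89`. -/
theorem sylow_spec (hD : CountData d A cls) {p k : ℕ} [Fact p.Prime]
    (hn : (fusedSet d A).ncard * 443520 = p * k) (hk : ¬ p ∣ k)
    (hp0 : ∀ f < 11, 2 ^ 11 % p = 2 ^ f % p → f = 0) (hp1 : ∀ f < 11, 2 ^ f % p = 1 → f = 0) :
    ∃ i m c : ℕ, i % p = 1 ∧ m ∣ p - 1 ∧ p * k = i * m * c ∧ p ∣ c ∧
      ∀ r : ℕ, r.Prime → r ∣ c → r = 23 ∨ r = 89 := by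
  obtain ⟨g, hg, i, m, hi, hm, he⟩ := exists_sylow_count (X := ↥(automizer A)) (hD.card_automizer.trans hn) hk
  refine ⟨i, m, _, hi, hm, he, ?_, fun r hr hrc => ?_⟩
  · rw [← hg]
    exact Subgroup.orderOf_dvd_natCard _ (Subgroup.mem_centralizer_singleton_iff.2 rfl)
  · have : Fact r.Prime := ⟨hr⟩
    obtain ⟨h, hh⟩ := exists_prime_orderOf_dvd_card' r hrc
    have hg' : orderOf (g : MulAut ↥A) = p := (Subgroup.orderOf_coe g).trans hg
    refine prime_of_commute (M := ↥A) hD.card (g := (g : MulAut ↥A)) (h := ((h : ↥(automizer A)) : MulAut ↥A))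
      hg' ?_ ?_ hp1 ?_
    · rw [Subgroup.orderOf_coe, Subgroup.orderOf_coe, hh]
    · obtain ⟨f, hf, hcard, hmod⟩ := exists_fix_exp (M := ↥A) hD.card hg'
      have := hp0 f hf hmod
      subst this
      exact Subgroup.eq_bot_of_card_eq _ (hcard.trans (pow_zero 2))
    · exact (congrArg Subtype.val (Subgroup.mem_centralizer_singleton_iff.1 h.2)).symm

end Cfsg.Agent.Lib.M22Cover2.CountData
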