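import Cfsg.Agent.Lib.M22Cover2.RadConj
import Cfsg.Agent.Lib.ThreeTransp.Hexad

/-!
# Type M(22): an elementary abelian subgroup of order `2^10` contains a member
-/

set_option autoImplicit false

namespace Cfsg.Agent.Lib.M22Cover2

open Cfsg Cfsg.Agent.Lib.PSUAut Cfsg.Agent.Lib.ThreeTransp Cfsg.Agent.Lib.ThreeTransp.PSUSix
open Cfsg.Agent.Lib.M22Struct66

variable {U : Type*} [Group U] [Finite U] {D : Set U} {F : Type} [Field F] [Fintype F]

/-- Half of `X` in `Y`. -/
theorem card_le_two_mul {X Y : Subgroup U} {s : U} (hs : ∀ y ∈ X, y ∈ Y ∨ s * y ∈ Y) :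
    Nat.card ↥X ≤ 2 * Nat.card ↥Y := by
  rw [← SetLike.coe_sort_coe X, ← SetLike.coe_sort_coe Y, Nat.card_coe_set_eq, Nat.card_coe_set_eq]
  refine (Set.ncard_le_ncard (t := (Y : Set U) ∪ (fun z => s⁻¹ * z) '' (Y : Set U)) fun y hy => ?_).trans ?_
  · rcases hs y hy with h | h
    · exact Or.inl h
    · exact Or.inr ⟨_, h, inv_mul_cancel_left s y⟩
  · refine (Set.ncard_union_le _ _).trans ?_
    rw [Set.ncard_image_of_injective _ (mul_right_injective s⁻¹)]
    omega

/-- A proper subgroup has at most half the order. -/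
theorem two_mul_le {Y X : Subgroup U} (h : Y ≤ X) {a : U} (ha : a ∈ X) (ha' : a ∉ Y) :
    2 * Nat.card ↥Y ≤ Nat.card ↥X := by
  obtain ⟨c, hc⟩ := Subgroup.card_dvd_of_le h
  have hlt : Nat.card ↥Y < Nat.card ↥X := by
    by_contra hle
    exact ha' ((Subgroup.eq_of_le_of_card_ge h (not_lt.1 hle)).symm ▸ ha)
  have : 2 ≤ c := by
    by_contra hc2
    interval_cases c <;> omega
  rw [hc]
  calc 2 * Nat.card ↥Y ≤ c * Nat.card ↥Y := Nat.mul_le_mul_right _ this
    _ = _ := mul_comm _ _

omit [Finite U] in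
/-- Adjoining a commuting involution. -/
theorem sup_involution {X : Subgroup U} (hX : ∀ x ∈ X, x * x = 1) {a : U} (ha : a * a = 1)
    (hc : ∀ x ∈ X, Commute x a) :
    (∀ z ∈ X ⊔ Subgroup.zpowers a, z * z = 1) ∧
      ∀ z ∈ X ⊔ Subgroup.zpowers a, z ∈ X ∨ z * a ∈ X := by
  let Y : Subgroup U :=
    { carrier := {z | (z ∈ X ∨ z * a ∈ X) ∧ Commute z a}
      one_mem' := ⟨Or.inl X.one_mem, Commute.one_left a⟩
      mul_mem' := fun {y z} hy hz => by
        refine ⟨?_, hy.2.mul_left hz.2⟩
        rcases hy.1 with h | h <;> rcases hz.1 with h' | h'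
        · exact Or.inl (X.mul_mem h h')
        · exact Or.inr (by rw [mul_assoc]; exact X.mul_mem h h')
        · refine Or.inr ?_
          have := X.mul_mem h h'
          rwa [mul_assoc, ← hz.2.eq, ← mul_assoc] at this
        · refine Or.inl ?_
          have := X.mul_mem h h'
          rwa [mul_assoc, ← mul_assoc a, ← hz.2.eq, mul_assoc z, ha, mul_one] at this
      inv_mem' := fun {z} hz => by
        refine ⟨?_, hz.2.inv_left⟩
        rcases hz.1 with h | h
        · exact Or.inl (X.inv_mem h)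
        · refine Or.inr ?_
          have := X.inv_mem h
          rwa [mul_inv_rev, inv_eq_of_mul_eq_one_right ha, ← hz.2.inv_left.eq] at this }
  have hle : X ⊔ Subgroup.zpowers a ≤ Y :=
    sup_le (fun x hx => ⟨Or.inl hx, hc x hx⟩) (Subgroup.zpowers_le.2 ⟨Or.inr (by rw [ha]; exact X.one_mem), Commute.refl a⟩)
  refine ⟨fun z hz => ?_, fun z hz => (hle hz).1⟩
  rcases (hle hz).1 with h | h
  · exact hX z h
  · have := hX _ h
    rwa [(hle hz).2.symm.mul_mul_mul_comm, ha, mul_one] at this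

namespace Base

variable (hB : Base D F)
include hB

/-- Two commuting members are determined by their product. -/
theorem pair_unique {a b a' b' : U} (ha : a ∈ D) (hb : b ∈ D) (hab : a ≠ b) (hc : Commute a b) (ha' : a' ∈ D)
    (hb' : b' ∈ D) (hab' : a' ≠ b') (hc' : Commute a' b') (h : a * b = a' * b') : a' = a ∨ a' = b := by
  obtain ⟨hgood, h4, -⟩ := Products.good_m22 (Products.pre_of_group hB.charted.grp) hB.m22
  rw [Products.core_eq hB.charted.set] at hgood h4
  have h2 := Products.factorization_unique hB.charted.set hB.charted.conj 2 (by norm_num) (fun k h1 h2 => by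
        obtain rfl | rfl : k = 1 ∨ k = 2 := by omega
        · exact Products.noProd_le_three hB.charted.set hB.charted.conj hB.charted.grp.2.2 hgood.center
            (by norm_num) (by norm_num)
        · exact h4)
      [a, b] [a', b'] (by simp [hab]) (by simp [hab']) rfl rfl (by simp [ha, hb]) (by simp [ha', hb'])
      (by simp [hc, hc.symm, Commute.refl]) (by simp [hc', hc'.symm, Commute.refl]) (by simpa using h)
  have := (h2 a').2 (by simp)
  simpa using this

theorem commProd_two {a b : U} (ha : a ∈ D) (hb : b ∈ D) (hab : a ≠ b) (hc : Commute a b) :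
    CommProd D 2 (a * b) :=
  ⟨[a, b], by simp [hab], rfl, by simp [ha, hb], by simp [hc, hc.symm, Commute.refl], by simp⟩

theorem commProd_one {a : U} (ha : a ∈ D) : CommProd D 1 a :=
  ⟨[a], by simp, rfl, by simp [ha], by simp, by simp⟩

theorem not_one_two {x : U} (h : CommProd D 2 x) : x ∉ D := fun hx =>
  absurd (hB.facts.commProd_unique 1 2 x le_rfl (by norm_num) (by norm_num) (by norm_num) (hB.commProd_one hx) h)
    (by norm_num)

omit [Finite U] in
theorem cj_mem {X : Subgroup U} (hX : ∀ x ∈ X, x * x = 1) {y : U} (hy : y ∈ X) {a : U} (ha : a ∈ D) :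
    y * a * y ∈ D := by
  have := hB.conjD y ha
  rwa [inv_eq_of_mul_eq_one_right (hX y hy)] at this

/-- The case of a product of two members. -/
theorem no_pair {X : Subgroup U} (hX : ∀ x ∈ X, x * x = 1) (hcard : 1024 ≤ Nat.card ↥X)
    (hno : ∀ x ∈ X, x ∉ D) {a b : U} (ha : a ∈ D) (hb : b ∈ D) (hab : a ≠ b) (hc : Commute a b)
    (hj : a * b ∈ X) : False := by
  have ea := hB.sq_mem ha
  have hmove : ∀ y ∈ X, y * a * y = a ∨ y * a * y = b := by
    intro y hy
    have hy2 := hX y hy
    have hye : y⁻¹ = y := inv_eq_of_mul_eq_one_right hy2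
    refine hB.pair_unique ha hb hab hc (b' := y * b * y) (hB.cj_mem hX hy ha) (hB.cj_mem hX hy hb)
      (fun h => hab (mul_left_cancel (mul_right_cancel h))) ?_ ?_
    · have := (commute_conj_iff y).2 hc
      rwa [hye] at this
    · calc a * b = y * (a * b) * y := by
            rw [(comm_of_sq hX hy hj).eq, mul_assoc _ y y, hy2, mul_one]
        _ = y * a * (y * y) * b * y := by rw [hy2]; group
        _ = y * a * y * (y * b * y) := by group
  set X₀ := X ⊓ Subgroup.centralizer ({a} : Set U) with hX₀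
  have hfix : ∀ y ∈ X, y * a * y = a → y ∈ X₀ := fun y hy h => ⟨hy, Subgroup.mem_centralizer_singleton_iff.2 (by
    calc y * a = y * a * (y * y) := by rw [hX y hy, mul_one]
      _ = y * a * y * y := by group
      _ = a * y := by rw [h])⟩
  obtain ⟨hFsq, hF⟩ := sup_involution (X := X₀) (fun x hx => hX x hx.1) ea
    fun x hx => Subgroup.mem_centralizer_singleton_iff.1 hx.2
  set Q := X₀ ⊔ Subgroup.zpowers a
  have haQ : a ∈ Q := Subgroup.mem_sup_right (Subgroup.mem_zpowers a)
  have hQ2 := two_mul_le (Y := X₀) (X := Q) le_sup_left haQ fun h => hno a h.1 ha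
  have hle := hB.card_le hFsq ha haQ
  obtain ⟨s, hs, hsa⟩ : ∃ s ∈ X, s * a * s = b := by
    by_contra hne
    push Not at hne
    have : X ≤ X₀ := fun y hy => hfix y hy ((hmove y hy).resolve_right (hne y hy))
    have := Subgroup.card_le_of_le this
    omega
  have hsb : s * b * s = a := by
    rw [← hsa, show s * (s * a * s) * s = (s * s) * a * (s * s) by group, hX s hs, one_mul, mul_one]
  have hhalf : Nat.card ↥X ≤ 2 * Nat.card ↥X₀ := card_le_two_mul (s := s) fun y hy => by
    rcases hmove y hy with h | h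
    · exact Or.inl (hfix y hy h)
    · refine Or.inr (hfix _ (X.mul_mem hs hy) ?_)
      rw [show s * y * a * (s * y) = s * (y * a * (s * y)) by group, (comm_of_sq hX hs hy).eq,
        show s * (y * a * (y * s)) = s * (y * a * y) * s by group, h, hsb]
  have hR : IsRad D Q := hB.isRad_of_le hFsq ha haQ (by omega)
  obtain ⟨w, hw, hwab⟩ : ∃ w ∈ {y | y ∈ D ∧ y ∈ Q}, w ∉ ({a, b} : Set U) :=
    Set.exists_mem_notMem_of_ncard_lt_ncard (by
      rw [hB.ncard_members hR, Set.ncard_pair hab]; norm_num) (Set.toFinite _)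
  simp only [Set.mem_insert_iff, Set.mem_singleton_iff, not_or] at hwab
  have hwa : w * a ∈ X₀ := (hF w hw.2).resolve_left fun h => hno w h.1 hw.1
  set x₀ := w * a
  have hw' : w = x₀ * a := by rw [mul_assoc, ea, mul_one]
  have hbQ : b ∈ Q := by
    have : a * b ∈ X₀ := ⟨hj, Subgroup.mem_centralizer_singleton_iff.2 (by
      rw [mul_assoc, ← hc.eq])⟩
    have := Q.mul_mem haQ (Subgroup.mem_sup_left (T := Subgroup.zpowers a) this)
    rwa [← mul_assoc, ea, one_mul] at this
  have hsw : s * w * s = x₀ * b := by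
    rw [hw', show s * (x₀ * a) * s = (s * x₀) * a * s by group, (comm_of_sq hX hs hwa.1).eq,
      show x₀ * s * a * s = x₀ * (s * a * s) by group, hsa]
  have hprod : w * (s * w * s) = a * b := by
    rw [hsw, hw', show x₀ * a * (x₀ * b) = x₀ * (a * x₀) * b by group,
      ← Subgroup.mem_centralizer_singleton_iff.1 hwa.2, ← mul_assoc x₀ x₀, hX x₀ hwa.1, one_mul]
  have hne : w ≠ s * w * s := fun h => by
    have h1 : a * b = 1 := by rw [← hprod, ← h]; exact hB.sq_mem hw.1
    exact hab (by rw [← mul_one a, ← hB.sq_mem hb, ← mul_assoc, h1, one_mul])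
  rcases hB.pair_unique ha hb hab hc hw.1 (hB.cj_mem hX hs hw.1) hne
    (comm_of_sq hFsq hw.2 (hsw.symm ▸ Q.mul_mem (Subgroup.mem_sup_left hwa) hbQ)) hprod.symm with h | h
  · exact hwab.1 h
  · exact hwab.2 h

/-- The factorisations of a product of three commuting members lie in two triples. -/
theorem triples {a b c : U} (ha : a ∈ D) (hb : b ∈ D) (hc : c ∈ D) (hab : a ≠ b) (hac : a ≠ c) (hbc : b ≠ c)
    (cab : Commute a b) (cac : Commute a c) (cbc : Commute b c) :
    ∃ T T' : Set U, T = {a, b, c} ∧ T ≠ T' ∧ T.ncard ≤ 3 ∧ T'.ncard ≤ 3 ∧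
      ∀ x y z : U, x ∈ D → y ∈ D → z ∈ D → x ≠ y → x ≠ z → y ≠ z → Commute x y → Commute x z → Commute y z →
        x * y * z = a * b * c → ({x, y, z} : Set U) = T ∨ ({x, y, z} : Set U) = T' := by
  obtain ⟨p, q, r, -, -, -, -, hnot, huniq⟩ := Products.two_factorisations hB.charted.grp hB.charted.prim hB.m22
    ha hb hc hab hac hbc cab cac cbc
  have h3 : ∀ u v w : U, ({u, v, w} : Set U).ncard ≤ 3 := fun u v w => by
    refine (Set.ncard_insert_le _ _).trans ?_
    have := Set.ncard_insert_le v ({w} : Set U)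
    rw [Set.ncard_singleton] at this
    omega
  refine ⟨{a, b, c}, {p, q, r}, rfl, fun h => hnot p (by simp) ?_, h3 _ _ _, h3 _ _ _, ?_⟩
  · have : p ∈ ({a, b, c} : Set U) := h ▸ Set.mem_insert _ _
    simpa using this
  · intro x y z hx hy hz hxy hxz hyz cxy cxz cyz hp
    rcases huniq [x, y, z] (by simp [hxy, hxz, hyz]) rfl (by simp [hx, hy, hz])
      (by simp [cxy, cxy.symm, cxz, cxz.symm, cyz, cyz.symm, Commute.refl]) (by simpa [mul_assoc] using hp) with h | h
    · exact Or.inl (Set.ext fun w => by simpa using h w)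
    · exact Or.inr (Set.ext fun w => by simpa using h w)

/-- The case of products of three members only. -/
theorem no_triple {X : Subgroup U} (hX : ∀ x ∈ X, x * x = 1) (hcard : 1024 ≤ Nat.card ↥X)
    (hno : ∀ x ∈ X, x ∉ D) (hno2 : ∀ x ∈ X, ¬ CommProd D 2 x) {a₀ b₀ c₀ : U} (ha : a₀ ∈ D) (hb : b₀ ∈ D)
    (hc : c₀ ∈ D) (hab : a₀ ≠ b₀) (hac : a₀ ≠ c₀) (hbc : b₀ ≠ c₀) (cab : Commute a₀ b₀) (cac : Commute a₀ c₀)
    (cbc : Commute b₀ c₀) (hj : a₀ * b₀ * c₀ ∈ X) : False := by
  obtain ⟨T, T', hT, hTT', -, -, huniq⟩ := hB.triples ha hb hc hab hac hbc cab cac cbc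
  let γ : U → Set U → Set U := fun y S => (fun z => y * z * y⁻¹) '' S
  have hγ : ∀ y z S, γ (y * z) S = γ y (γ z S) := fun y z S => by
    simp only [γ, Set.image_image]; congr 1; funext w; group
  have hγ1 : ∀ S, γ 1 S = S := fun S => by simp [γ]
  have hTy : ∀ y ∈ X, γ y T = T ∨ γ y T = T' := by
    intro y hy
    have e : γ y T = {y * a₀ * y⁻¹, y * b₀ * y⁻¹, y * c₀ * y⁻¹} := by
      rw [hT]; simp [γ, Set.image_insert_eq]
    rw [e]
    refine huniq _ _ _ (hB.conjD y ha) (hB.conjD y hb) (hB.conjD y hc) (by simpa using hab) (by simpa using hac)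
      (by simpa using hbc) ((commute_conj_iff y).2 cab) ((commute_conj_iff y).2 cac) ((commute_conj_iff y).2 cbc) ?_
    calc y * a₀ * y⁻¹ * (y * b₀ * y⁻¹) * (y * c₀ * y⁻¹) = y * (a₀ * b₀ * c₀) * y⁻¹ := by group
      _ = a₀ * b₀ * c₀ := by rw [(comm_of_sq hX hy hj).eq, mul_inv_cancel_right]
  let X₁ : Subgroup U :=
    { carrier := {y | y ∈ X ∧ γ y T = T}
      one_mem' := ⟨X.one_mem, hγ1 T⟩
      mul_mem' := fun {y z} hy hz => ⟨X.mul_mem hy.1 hz.1, by rw [hγ, hz.2, hy.2]⟩
      inv_mem' := fun {y} hy => ⟨X.inv_mem hy.1, by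
        conv_lhs => rw [← hy.2]
        rw [← hγ, inv_mul_cancel, hγ1]⟩ }
  have hX₁ : Nat.card ↥X ≤ 2 * Nat.card ↥X₁ := by
    by_cases hs : ∀ y ∈ X, γ y T = T
    · have : X ≤ X₁ := fun y hy => ⟨hy, hs y hy⟩
      have := Subgroup.card_le_of_le this
      omega
    · push Not at hs
      obtain ⟨s, hs, hsT⟩ := hs
      have hsT' := (hTy s hs).resolve_left hsT
      refine card_le_two_mul (s := s) fun y hy => ?_
      rcases hTy y hy with h | h
      · exact Or.inl ⟨hy, h⟩
      · refine Or.inr ⟨X.mul_mem hs hy, ?_⟩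
        rw [hγ, h, ← hsT', ← hγ, hX s hs, hγ1]
  have hperm : ∀ y ∈ X₁, ∀ t ∈ T, y * t * y ∈ T := fun y hy t ht => by
    have : y * t * y⁻¹ ∈ γ y T := ⟨t, ht, rfl⟩
    rw [hy.2, inv_eq_of_mul_eq_one_right (hX y hy.1)] at this
    exact this
  -- two points of the triple fixed by half
  obtain ⟨a, b, haT, hbT, habne, hhalf⟩ : ∃ a b : U, a ∈ T ∧ b ∈ T ∧ a ≠ b ∧
      Nat.card ↥X₁ ≤ 2 * Nat.card ↥(X₁ ⊓ Subgroup.centralizer ({a} : Set U) ⊓ Subgroup.centralizer ({b} : Set U)) := by
    have hfix : ∀ y ∈ X₁, ∀ t : U, y * t * y = t → y ∈ Subgroup.centralizer ({t} : Set U) := fun y hy t h =>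
      Subgroup.mem_centralizer_singleton_iff.2 (by
        calc y * t = y * t * (y * y) := by rw [hX y hy.1, mul_one]
          _ = y * t * y * y := by group
          _ = t * y := by rw [h])
    have hinj : ∀ y ∈ X₁, ∀ t u : U, y * t * y = y * u * y → t = u := fun y _ t u h =>
      mul_left_cancel (mul_right_cancel h)
    have hinv2 : ∀ y ∈ X₁, ∀ t u : U, y * t * y = u → y * u * y = t := fun y hy t u h => by
      rw [← h, show y * (y * t * y) * y = (y * y) * t * (y * y) by group, hX y hy.1, one_mul, mul_one]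
    have hthree : ∀ p q r z : U, p ∈ T → q ∈ T → r ∈ T → z ∈ T → p ≠ q → p ≠ r → q ≠ r → z ≠ p → z ≠ q → z = r := by
      intro p q r z hp hq hr hz hpq hpr hqr hzp hzq
      rw [hT] at hp hq hr hz
      simp only [Set.mem_insert_iff, Set.mem_singleton_iff] at hp hq hr hz
      grind
    by_cases hm : ∃ s ∈ X₁, ∃ a ∈ T, s * a * s ≠ a
    · obtain ⟨s, hs, a, haT, hsa⟩ := hm
      refine ⟨a, s * a * s, haT, hperm s hs a haT, Ne.symm hsa, card_le_two_mul (s := s) fun y hy => ?_⟩
      have hcom : y * (s * a * s) * y = s * (y * a * y) * s := by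
        have h1 := (comm_of_sq hX hy.1 hs.1).eq
        calc y * (s * a * s) * y = (y * s) * a * (s * y) := by group
          _ = (s * y) * a * (y * s) := by rw [h1]
          _ = _ := by group
      by_cases hya : y * a * y = a
      · exact Or.inl ⟨⟨hy, hfix y hy a hya⟩, hfix y hy _ (by rw [hcom, hya])⟩
      · have heq : y * a * y = s * a * s := by
          by_contra hne
          set p := s * a * s with hp
          set q := y * a * y with hq
          have hpT := hperm s hs a haT
          have hqT := hperm y hy a haT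
          have hsq : s * q * s = q := hthree a p q _ haT hpT hqT (hperm s hs q hqT) (Ne.symm hsa) (Ne.symm hya)
            (Ne.symm hne) (fun e => hne (hinj s hs _ _ (e.trans (hinv2 s hs a p rfl).symm)))
            fun e => hya (hinj s hs _ _ e)
          have hyp : y * p * y = p := hthree a q p _ haT hqT hpT (hperm y hy p hpT) (Ne.symm hya) (Ne.symm hsa)
            hne (fun e => hne (hinj y hy _ _ ((hinv2 y hy a q rfl).trans e.symm)))
            fun e => hsa (hinj y hy _ _ e)
          rw [hcom, hsq] at hyp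
          exact hne hyp
        refine Or.inr ?_
        have hk : s * y * a * (s * y) = a := by
          have h1 := (comm_of_sq hX hy.1 hs.1).eq
          calc s * y * a * (s * y) = s * y * a * (y * s) := by rw [h1]
            _ = s * (y * a * y) * s := by group
            _ = a := by rw [heq, hinv2 s hs a _ rfl]
        refine ⟨⟨X₁.mul_mem hs hy, hfix _ (X₁.mul_mem hs hy) a hk⟩, hfix _ (X₁.mul_mem hs hy) _ ?_⟩
        have h1 := (comm_of_sq hX (X₁.mul_mem hs hy).1 hs.1).eq
        calc s * y * (s * a * s) * (s * y) = (s * y * s) * a * (s * (s * y)) := by group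
          _ = (s * (s * y)) * a * (s * y * s) := by rw [← h1]
          _ = s * (s * y * a * (s * y)) * s := by group
          _ = s * a * s := by rw [hk]
    · push Not at hm
      refine ⟨a₀, b₀, hT ▸ by simp, hT ▸ by simp, hab, ?_⟩
      have : X₁ ≤ X₁ ⊓ Subgroup.centralizer ({a₀} : Set U) ⊓ Subgroup.centralizer ({b₀} : Set U) :=
        fun y hy => ⟨⟨hy, hfix y hy _ (hm y hy _ (hT ▸ by simp))⟩, hfix y hy _ (hm y hy _ (hT ▸ by simp))⟩
      have := Subgroup.card_le_of_le this
      omega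
  have hTD : ∀ t ∈ T, t ∈ D := by
    intro t ht
    rw [hT] at ht
    simp only [Set.mem_insert_iff, Set.mem_singleton_iff] at ht
    rcases ht with rfl | rfl | rfl <;> assumption
  have hTc : ∀ t ∈ T, ∀ u ∈ T, Commute t u := by
    intro t ht u hu
    rw [hT] at ht hu
    simp only [Set.mem_insert_iff, Set.mem_singleton_iff] at ht hu
    rcases ht with rfl | rfl | rfl <;> rcases hu with rfl | rfl | rfl <;>
      first | exact Commute.refl _ | assumption | exact Commute.symm (by assumption)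
  set X₂ := X₁ ⊓ Subgroup.centralizer ({a} : Set U) ⊓ Subgroup.centralizer ({b} : Set U)
  have hX₂X : ∀ x ∈ X₂, x ∈ X := fun x hx => hx.1.1.1
  have ea := hB.sq_mem (hTD a haT)
  have eb := hB.sq_mem (hTD b hbT)
  have cabT := hTc a haT b hbT
  obtain ⟨hYsq, hY⟩ := sup_involution (X := X₂) (fun x hx => hX x (hX₂X x hx)) ea
    fun x hx => Subgroup.mem_centralizer_singleton_iff.1 hx.1.2
  set Y := X₂ ⊔ Subgroup.zpowers a with hYdef
  have hYb : ∀ y ∈ Y, Commute y b := by
    have : Y ≤ Subgroup.centralizer ({b} : Set U) :=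
      sup_le inf_le_right (Subgroup.zpowers_le.2 (Subgroup.mem_centralizer_singleton_iff.2 cabT.eq))
    exact fun y hy => Subgroup.mem_centralizer_singleton_iff.1 (this hy)
  obtain ⟨hQsq, hQ⟩ := sup_involution hYsq eb hYb
  set Q := Y ⊔ Subgroup.zpowers b
  have hbQ : b ∈ Q := Subgroup.mem_sup_right (Subgroup.mem_zpowers b)
  have h1 := two_mul_le (Y := X₂) (X := Y) le_sup_left (Subgroup.mem_sup_right (Subgroup.mem_zpowers a))
    fun h => hno a (hX₂X a h) (hTD a haT)
  have h2 := two_mul_le (Y := Y) (X := Q) le_sup_left hbQ fun h => by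
    rcases hY b h with h | h
    · exact hno b (hX₂X b h) (hTD b hbT)
    · exact hno2 _ (hX₂X _ h) (hB.commProd_two (hTD b hbT) (hTD a haT) habne.symm cabT.symm)
  have hR : IsRad D Q := hB.isRad_of_le hQsq (hTD b hbT) hbQ (by omega)
  have hother : ∀ w ∈ D, w ∈ Q → w ≠ a → w ≠ b → w * b * a ∈ X₂ := by
    intro w hw hwQ hwa hwb
    rcases hQ w hwQ with h | h
    · rcases hY w h with h' | h'
      · exact absurd hw (hno w (hX₂X w h'))
      · exact absurd (hB.commProd_two hw (hTD a haT) hwa (comm_of_sq hQsq hwQ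
          (Subgroup.mem_sup_left (Subgroup.mem_sup_right (Subgroup.mem_zpowers a))))) (hno2 _ (hX₂X _ h'))
    · rcases hY _ h with h' | h'
      · exact absurd (hB.commProd_two hw (hTD b hbT) hwb (comm_of_sq hQsq hwQ hbQ)) (hno2 _ (hX₂X _ h'))
      · exact h'
  have hM : 1 < ({y | y ∈ D ∧ y ∈ Q} \ {a, b}).ncard := by
    have h3 := Set.le_ncard_sdiff ({a, b} : Set U) {y | y ∈ D ∧ y ∈ Q}
    rw [hB.ncard_members hR, Set.ncard_pair habne] at h3
    omega
  obtain ⟨w, hw, w', hw', hne⟩ := (Set.one_lt_ncard).1 hM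
  simp only [Set.mem_sdiff, Set.mem_insert_iff, Set.mem_singleton_iff, not_or] at hw hw'
  have hh := X₂.mul_mem (hother w hw.1.1 hw.1.2 hw.2.1 hw.2.2)
    (X₂.inv_mem (hother w' hw'.1.1 hw'.1.2 hw'.2.1 hw'.2.2))
  rw [show w * b * a * (w' * b * a)⁻¹ = w * w'⁻¹ by group, inv_eq hB.charted.set hw'.1.1] at hh
  exact hno2 _ (hX₂X _ hh) (hB.commProd_two hw.1.1 hw'.1.1 hne (comm_of_sq hQsq hw.1.2 hw'.1.2))

/-- An elementary abelian subgroup of order at least `2^10` is a radical. -/
theorem isRad_of_card {X : Subgroup U} (hX : ∀ x ∈ X, x * x = 1) (hcard : 1024 ≤ Nat.card ↥X) : IsRad D X := by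
  by_cases hm : ∃ x ∈ X, x ∈ D
  · obtain ⟨x, hx, hxD⟩ := hm
    exact hB.isRad_of_le hX hxD hx hcard
  push Not at hm
  exfalso
  by_cases h2 : ∃ x ∈ X, CommProd D 2 x
  · obtain ⟨x, hx, l, hnd, hlen, hmem, hcomm, rfl⟩ := h2
    obtain ⟨a, b, rfl⟩ := List.length_eq_two.1 hlen
    simp only [List.prod_cons, List.prod_nil, mul_one] at hx
    exact hB.no_pair hX hcard hm (hmem a (by simp)) (hmem b (by simp)) (by simpa using hnd)
      (hcomm a (by simp) b (by simp)) hx
  push Not at h2
  obtain ⟨x, hx, hx1⟩ : ∃ x ∈ X, x ≠ 1 := by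
    by_contra hne
    push Not at hne
    have := (Subgroup.eq_bot_iff_forall X).2 hne
    rw [this, Subgroup.card_bot] at hcard
    omega
  obtain ⟨m, hm1, hm3, hp⟩ := hB.facts.exists_commProd x (orderOf_eq_prime (by rw [pow_two, hX x hx]) hx1)
  obtain rfl | rfl | rfl : m = 1 ∨ m = 2 ∨ m = 3 := by omega
  · obtain ⟨l, -, hlen, hmem, -, rfl⟩ := hp
    obtain ⟨a, rfl⟩ := List.length_eq_one_iff.1 hlen
    exact hm _ hx (by simpa using hmem)
  · exact h2 x hx hp
  · obtain ⟨l, hnd, hlen, hmem, hcomm, rfl⟩ := hp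
    obtain ⟨a, b, c, rfl⟩ := List.length_eq_three.1 hlen
    simp only [List.nodup_cons, List.mem_cons, List.not_mem_nil, or_false, not_or, not_false_eq_true,
      List.nodup_nil, and_true] at hnd
    exact hB.no_triple hX hcard hm h2 (hmem a (by simp)) (hmem b (by simp)) (hmem c (by simp)) hnd.1.1 hnd.1.2
      hnd.2 (hcomm a (by simp) b (by simp)) (hcomm a (by simp) c (by simp)) (hcomm b (by simp) c (by simp))
      (by simpa [mul_assoc] using hx)

end Base

end Cfsg.Agent.Lib.M22Cover2
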