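import Cfsg.Agent.Lib.M22Cover2.Big

/-!
# Type M(22): the three classes of a radical
-/

set_option autoImplicit false

namespace Cfsg.Agent.Lib.M22Cover2

open Cfsg Cfsg.Agent.Lib.PSUAut Cfsg.Agent.Lib.ThreeTransp Cfsg.Agent.Lib.ThreeTransp.PSUSix
open Cfsg.Agent.Lib.M22Struct66

variable {U : Type*} [Group U] [Finite U] {D : Set U} {F : Type} [Field F] [Fintype F]

/-- The elements of `R` that are products of `i + 1` commuting members. -/
def radCls (D : Set U) (R : Subgroup U) (i : Fin 3) : Set U := {x | x ∈ R ∧ CommProd D (i.1 + 1) x}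

namespace Base

variable (hB : Base D F)
include hB

theorem mem_cls_zero {R : Subgroup U} {x : U} : x ∈ radCls D R 0 ↔ x ∈ D ∧ x ∈ R := by
  constructor
  · rintro ⟨hx, l, -, hlen, hmem, -, rfl⟩
    obtain ⟨a, rfl⟩ := List.length_eq_one_iff.1 hlen
    exact ⟨by simpa using hmem a (by simp), hx⟩
  · rintro ⟨h, hR⟩; exact ⟨hR, hB.commProd_one h⟩

theorem cls_disjoint {R : Subgroup U} (i j : Fin 3) (x : U) (hi : x ∈ radCls D R i) (hj : x ∈ radCls D R j) :
    i = j := by
  have := hB.facts.commProd_unique _ _ x (by omega) (by omega) (by omega) (by omega) hi.2 hj.2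
  exact Fin.ext (by omega)

theorem one_notMem_cls {R : Subgroup U} (i : Fin 3) : (1 : U) ∉ radCls D R i := by
  rintro ⟨-, l, hnd, hlen, hmem, hcomm, hp⟩
  exact hB.charted.toCtx.noSmall (n := i.1 + 1) (by omega) (by omega) l hnd hlen hmem hcomm hp

theorem cls_cover {R : Subgroup U} (hR : IsRad D R) {x : U} (hx : x ∈ R) (h1 : x ≠ 1) :
    ∃ i, x ∈ radCls D R i := by
  obtain ⟨m, hm1, hm3, hp⟩ := hB.facts.exists_commProd x (orderOf_eq_prime (by rw [pow_two, hR.sq x hx]) h1)
  obtain ⟨k, rfl⟩ : ∃ k, m = k + 1 := ⟨m - 1, by omega⟩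
  exact ⟨⟨k, by omega⟩, hx, hp⟩

theorem cls_trans {R : Subgroup U} (hR : IsRad D R) (i : Fin 3) {x y : U} (hx : x ∈ radCls D R i)
    (hy : y ∈ radCls D R i) : ∃ n ∈ Subgroup.normalizer (R : Set U), n * x * n⁻¹ = y :=
  hB.fusion hR hx.1 hy.1 (hB.facts.commProd_isConj _ (by omega) (by omega) x y hx.2 hy.2)

/-- The classes have 22, 231 and 770 elements. -/
theorem card_cls {R : Subgroup U} (hR : IsRad D R) :
    (radCls D R 0).ncard = 22 ∧ (radCls D R 1).ncard = 231 ∧ (radCls D R 2).ncard = 770 := by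
  classical
  have := Fintype.ofFinite U
  have h0 : (radCls D R 0).ncard = 22 := by
    rw [show radCls D R 0 = {y | y ∈ D ∧ y ∈ R} from Set.ext fun x => hB.mem_cls_zero, hB.ncard_members hR]
  set M : Finset U := {y | y ∈ D ∧ y ∈ R}.toFinset with hM
  have hMc : M.card = 22 := by rw [hM, ← Set.ncard_eq_toFinset_card', hB.ncard_members hR]
  have hmem : ∀ y, y ∈ M ↔ y ∈ D ∧ y ∈ R := fun y => by simp [M]
  -- pairs
  have h2 : 462 ≤ 2 * (radCls D R 1).ncard := by
    have key := Finset.card_le_mul_card_image (f := fun p : U × U => p.1 * p.2) M.offDiag 2 (by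
      intro j hj
      obtain ⟨⟨a, b⟩, hp, rfl⟩ := Finset.mem_image.1 hj
      obtain ⟨ha, hb, hab⟩ := Finset.mem_offDiag.1 hp
      rw [hmem] at ha hb
      refine (Finset.card_le_card (t := {(a, b), (b, a)}) ?_).trans (Finset.card_le_two)
      rintro ⟨x, y⟩ hxy
      obtain ⟨hxy', he⟩ := Finset.mem_filter.1 hxy
      obtain ⟨hx, hy, hne⟩ := Finset.mem_offDiag.1 hxy'
      rw [hmem] at hx hy
      have he' : a * b = x * y := he.symm
      rcases hB.pair_unique ha.1 hb.1 hab (comm_of_sq hR.sq ha.2 hb.2) hx.1 hy.1 hne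
          (comm_of_sq hR.sq hx.2 hy.2) he' with rfl | rfl
      · have : b = y := mul_left_cancel he'
        simp [this]
      · have : a = y := mul_left_cancel (((comm_of_sq hR.sq ha.2 hb.2).eq.symm).trans he')
        simp [this])
    rw [Finset.offDiag_card, hMc] at key
    have hsub : ((M.offDiag.image fun p => p.1 * p.2 : Finset U) : Set U) ⊆ radCls D R 1 := by
      intro j hj
      obtain ⟨⟨a, b⟩, hp, rfl⟩ := Finset.mem_image.1 hj
      obtain ⟨ha, hb, hab⟩ := Finset.mem_offDiag.1 hp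
      rw [hmem] at ha hb
      exact ⟨R.mul_mem ha.2 hb.2, hB.commProd_two ha.1 hb.1 hab (comm_of_sq hR.sq ha.2 hb.2)⟩
    have := Set.ncard_le_ncard hsub
    rw [Set.ncard_coe_finset] at this
    omega
  -- triples
  have h3 : 9240 ≤ 12 * (radCls D R 2).ncard := by
    set P := (M.offDiag ×ˢ M).filter fun p : (U × U) × U => p.2 ≠ p.1.1 ∧ p.2 ≠ p.1.2 with hP
    have hPc : P.card = 9240 := by
      have hfib : ∀ q ∈ M.offDiag, (M.filter fun z => z ≠ q.1 ∧ z ≠ q.2).card = 20 := by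
        rintro ⟨a, b⟩ hq
        obtain ⟨ha, hb, hab⟩ := Finset.mem_offDiag.1 hq
        rw [show M.filter (fun z => z ≠ a ∧ z ≠ b) = (M.erase a).erase b by ext; simp; tauto,
          Finset.card_erase_of_mem (Finset.mem_erase.2 ⟨Ne.symm hab, hb⟩), Finset.card_erase_of_mem ha, hMc]
      have e : P.card = ∑ q ∈ M.offDiag, (M.filter fun z => z ≠ q.1 ∧ z ≠ q.2).card := by
        rw [hP, Finset.card_filter, Finset.sum_product]
        exact Finset.sum_congr rfl fun q _ => (Finset.card_filter _ _).symm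
      rw [e, Finset.sum_congr rfl hfib, Finset.sum_const, Finset.offDiag_card, hMc]
      rfl
    have key := Finset.card_le_mul_card_image (f := fun p : (U × U) × U => p.1.1 * p.1.2 * p.2) P 12 (by
      intro j hj
      obtain ⟨⟨⟨a, b⟩, c⟩, hp, rfl⟩ := Finset.mem_image.1 hj
      obtain ⟨hp', hca, hcb⟩ := Finset.mem_filter.1 hp
      obtain ⟨hq, hc⟩ := Finset.mem_product.1 hp'
      obtain ⟨ha, hb, hab⟩ := Finset.mem_offDiag.1 hq
      rw [hmem] at ha hb hc
      obtain ⟨T, T', -, -, hT, hT', huniq⟩ := hB.triples ha.1 hb.1 hc.1 hab (Ne.symm hca) (Ne.symm hcb)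
        (comm_of_sq hR.sq ha.2 hb.2) (comm_of_sq hR.sq ha.2 hc.2) (comm_of_sq hR.sq hb.2 hc.2)
      have hoff : ∀ S : Set U, S.ncard ≤ 3 → S.toFinset.offDiag.card ≤ 6 := fun S hS => by
        rw [Finset.offDiag_card, ← Set.ncard_eq_toFinset_card']
        generalize S.ncard = k at hS
        interval_cases k <;> omega
      refine le_trans (Finset.card_le_card_of_injOn (fun p => p.1) ?_ ?_)
        ((Finset.card_union_le T.toFinset.offDiag T'.toFinset.offDiag).trans
          (Nat.add_le_add (hoff T hT) (hoff T' hT')))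
      · rintro ⟨⟨x, y⟩, z⟩ hxyz
        obtain ⟨hx', he⟩ := Finset.mem_filter.1 hxyz
        obtain ⟨hxp, hzx, hzy⟩ := Finset.mem_filter.1 hx'
        obtain ⟨hxq, hz⟩ := Finset.mem_product.1 hxp
        obtain ⟨hx, hy, hxy⟩ := Finset.mem_offDiag.1 hxq
        rw [hmem] at hx hy hz
        show (x, y) ∈ T.toFinset.offDiag ∪ T'.toFinset.offDiag
        rcases huniq x y z hx.1 hy.1 hz.1 hxy (Ne.symm hzx) (Ne.symm hzy) (comm_of_sq hR.sq hx.2 hy.2)
          (comm_of_sq hR.sq hx.2 hz.2) (comm_of_sq hR.sq hy.2 hz.2) he with h | h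
        · exact Finset.mem_union_left _ (Finset.mem_offDiag.2 ⟨by simp [← h], by simp [← h], hxy⟩)
        · exact Finset.mem_union_right _ (Finset.mem_offDiag.2 ⟨by simp [← h], by simp [← h], hxy⟩)
      · rintro ⟨p, z⟩ hp1 ⟨p', z'⟩ hp2 (rfl : p = p')
        have e1 := (Finset.mem_filter.1 hp1).2
        have e2 := (Finset.mem_filter.1 hp2).2
        exact Prod.ext rfl (mul_left_cancel (e1.trans e2.symm)))
    rw [hPc] at key
    have hsub : ((P.image fun p => p.1.1 * p.1.2 * p.2 : Finset U) : Set U) ⊆ radCls D R 2 := by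
      intro j hj
      obtain ⟨⟨⟨a, b⟩, c⟩, hp, rfl⟩ := Finset.mem_image.1 hj
      obtain ⟨hp', hca, hcb⟩ := Finset.mem_filter.1 hp
      obtain ⟨hq, hc⟩ := Finset.mem_product.1 hp'
      obtain ⟨ha, hb, hab⟩ := Finset.mem_offDiag.1 hq
      rw [hmem] at ha hb hc
      refine ⟨R.mul_mem (R.mul_mem ha.2 hb.2) hc.2, [a, b, c], by simp [hab, Ne.symm hca, Ne.symm hcb], rfl,
        by simp [ha.1, hb.1, hc.1], ?_, by simp [mul_assoc]⟩
      intro u hu v hv
      have hin : ∀ w ∈ [a, b, c], w ∈ R := by simp [ha.2, hb.2, hc.2]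
      exact comm_of_sq hR.sq (hin u hu) (hin v hv)
    have := Set.ncard_le_ncard hsub
    rw [Set.ncard_coe_finset] at this
    omega
  -- all 1023
  have hU : (radCls D R 0).ncard + (radCls D R 1).ncard + (radCls D R 2).ncard ≤ 1023 := by
    have hd : ∀ i j : Fin 3, i ≠ j → Disjoint (radCls D R i) (radCls D R j) := fun i j hij =>
      Set.disjoint_left.2 fun x hi hj => hij (hB.cls_disjoint i j x hi hj)
    rw [← Set.ncard_union_eq (hd 0 1 (by decide)), ← Set.ncard_union_eq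
      (Set.disjoint_union_left.2 ⟨hd 0 2 (by decide), hd 1 2 (by decide)⟩)]
    refine (Set.ncard_le_ncard (t := (R : Set U) \ {1}) fun x hx => ?_).trans (le_of_eq ?_)
    · rcases hx with (hx | hx) | hx <;> exact ⟨hx.1, fun (h : x = 1) => hB.one_notMem_cls _ (h ▸ hx)⟩
    · rw [Set.ncard_sdiff_singleton_of_mem (SetLike.mem_coe.2 R.one_mem), ← Nat.card_coe_set_eq,
        SetLike.coe_sort_coe, hR.card]
  omega

/-- Every involution is conjugate into a given radical. -/
theorem exists_conj_into {R : Subgroup U} (hR : IsRad D R) {x : U} (hx : x * x = 1) :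
    ∃ g : U, g * x * g⁻¹ ∈ R := by
  by_cases h1 : x = 1
  · exact ⟨1, by simp [h1, R.one_mem]⟩
  obtain ⟨m, hm1, hm3, hp⟩ := hB.facts.exists_commProd x (orderOf_eq_prime (by rw [pow_two, hx]) h1)
  obtain ⟨k, rfl⟩ : ∃ k, m = k + 1 := ⟨m - 1, by omega⟩
  obtain ⟨y, hy⟩ : (radCls D R ⟨k, by omega⟩).Nonempty := by
    refine Set.nonempty_of_ncard_ne_zero ?_
    obtain ⟨c0, c1, c2⟩ := hB.card_cls hR
    rcases (show k = 0 ∨ k = 1 ∨ k = 2 by omega) with rfl | rfl | rfl
    · exact ne_of_eq_of_ne c0 (by norm_num)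
    · exact ne_of_eq_of_ne c1 (by norm_num)
    · exact ne_of_eq_of_ne c2 (by norm_num)
  obtain ⟨g, hg⟩ := isConj_iff.1 (hB.facts.commProd_isConj _ hm1 hm3 x y hp hy.2)
  exact ⟨g, hg ▸ hy.1⟩

end Base

end Cfsg.Agent.Lib.M22Cover2
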