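import Cfsg.Agent.Lib.M22Cover2.Automizer

/-!
# Twenty-three conjugates of `d`, or a subgroup of index two avoiding them
-/

set_option autoImplicit false

namespace Cfsg.Agent.Lib.M22Cover2.CountData

variable {G : Type*} [Group G] [Finite G] {d : G} {A : Subgroup G} {cls : Fin 3 → Set G}

theorem cases_card (hD : CountData d A cls) (i : Fin 3) :
    (cls i ∩ fusedSet d A).ncard = 0 ∨ (cls i ∩ fusedSet d A).ncard = ![22, 231, 770] i ∨
      (cls i ∩ fusedSet d A).ncard = ![44, 462, 1540] i := by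
  rcases hD.card_class_inter i with h | h | h
  · exact Or.inl h.2
  · refine Or.inr (Or.inl ?_)
    have := h.2
    rw [hD.card_cls] at this
    fin_cases i <;> simp at this ⊢ <;> omega
  · exact Or.inr (Or.inr (h.2.trans (hD.card_cls i)))

/-- The possible numbers of conjugates. -/
theorem card_mem (hD : CountData d A cls) :
    (fusedSet d A).ncard ∈ [23, 45, 254, 276, 1024, 2025, 2047] := by
  have hn := hD.card_fusedSet
  have h1 : 1 < (fusedSet d A).ncard := by
    obtain ⟨x, hx, hxd, hne⟩ := hD.fused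
    exact (Set.one_lt_ncard).2 ⟨x, ⟨hx, hxd⟩, d, hD.self_mem, hne⟩
  have bad : ∀ q ∈ [13, 29, 61, 67, 97, 137, 163, 167, 227, 251, 257, 317, 443, 463, 521, 523, 1277, 2003],
      q.Prime ∧ ¬ ∃ f < 11, 2 ^ 11 % q = 2 ^ f % q := by
    intro q hq
    simp only [List.mem_cons, List.not_mem_nil, or_false] at hq
    rcases hq with rfl | rfl | rfl | rfl | rfl | rfl | rfl | rfl | rfl | rfl | rfl | rfl | rfl | rfl | rfl |
      rfl | rfl | rfl
    all_goals exact ⟨by norm_num, by decide⟩
  have hno : ∀ q ∈ [13, 29, 61, 67, 97, 137, 163, 167, 227, 251, 257, 317, 443, 463, 521, 523, 1277, 2003],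
      ¬ q ∣ (fusedSet d A).ncard := fun q hq h => (bad q hq).2 (hD.prime_spec q (bad q hq).1 h)
  simp only [List.forall_mem_cons, List.not_mem_nil, IsEmpty.forall_iff, implies_true, and_true] at hno
  have c0 := hD.cases_card 0
  have c1 := hD.cases_card 1
  have c2 := hD.cases_card 2
  simp only [Matrix.cons_val] at c0 c1 c2
  simp only [List.mem_cons, List.not_mem_nil, or_false]
  rcases c0 with c0 | c0 | c0 <;> rcases c1 with c1 | c1 | c1 <;> rcases c2 with c2 | c2 | c2 <;>
    rw [hn, c0, c1, c2] at h1 hno ⊢ <;> omega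

/-- The shape of a class from the number of conjugates in it. -/
theorem shape (hD : CountData d A cls) (i : Fin 3) :
    ((cls i ∩ fusedSet d A).ncard = 0 → ∀ a ∈ cls i, a ∉ fusedSet d A) ∧
    ((cls i ∩ fusedSet d A).ncard = ![22, 231, 770] i →
      ∀ a ∈ cls i, (a * d ∈ fusedSet d A ↔ a ∉ fusedSet d A)) ∧
    ((cls i ∩ fusedSet d A).ncard = ![44, 462, 1540] i → ∀ a ∈ cls i, a ∈ fusedSet d A) := by
  have hc := hD.card_cls i
  rcases hD.card_class_inter i with h | h | h
  · refine ⟨fun _ => h.1, fun e => ?_, fun e => ?_⟩ <;>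
    · rw [h.2] at e; fin_cases i <;> simp at e
  · refine ⟨fun e => ?_, fun _ => h.1, fun e => ?_⟩ <;>
    · have := h.2; rw [e, hc] at this; fin_cases i <;> simp at this
  · refine ⟨fun e => ?_, fun e => ?_, fun _ => h.1⟩ <;>
    · have := h.2; rw [e, hc] at this; fin_cases i <;> simp at this

theorem ne45 (hD : CountData d A cls) : (fusedSet d A).ncard ≠ 45 := by
  intro hn
  have hs := hD.card_fusedSet
  have c0 := hD.cases_card 0
  have c1 := hD.cases_card 1
  have c2 := hD.cases_card 2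
  simp only [Matrix.cons_val] at c0 c1 c2
  have h0 : ∀ a ∈ cls 0, a ∈ fusedSet d A := (hD.shape 0).2.2 (by simp only [Matrix.cons_val]; omega)
  have h1 := (hD.shape 1).1 (by omega)
  have h2 := (hD.shape 2).1 (by omega)
  have hsub : ∀ x ∈ fusedSet d A, x = d ∨ x ∈ cls 0 := fun x hx => by
    by_cases hd : x = d
    · exact Or.inl hd
    · obtain ⟨i, hi⟩ := hD.cover x hx.1 (fun h => hD.one_notMem (h ▸ hx)) hd
      fin_cases i
      · exact Or.inr hi
      · exact absurd hx (h1 x hi)
      · exact absurd hx (h2 x hi)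
  have hne : (cls 0).Nonempty := Set.nonempty_of_ncard_ne_zero (by rw [hD.card_cls]; simp)
  obtain ⟨a, ha⟩ := hne
  obtain ⟨n, hn', hna⟩ := hD.trans a (hD.subset 0 ha) (h0 a ha).2
  let I : G → Set G := fun x => {y | y ∈ fusedSet d A ∧ x * y ∈ fusedSet d A}
  have key : (I a).ncard = (I d).ncard := by
    have e : ∀ z : G, n * (a * z) * n⁻¹ = d * (n * z * n⁻¹) := fun z => by rw [← hna]; group
    refine Set.ncard_congr (fun y _ => n * y * n⁻¹) ?_ ?_ ?_
    · exact fun y hy => ⟨conj_mem hn' hy.1, by rw [← e]; exact conj_mem hn' hy.2⟩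
    · exact fun y z _ _ h => mul_left_cancel (mul_right_cancel h)
    · intro y hy
      refine ⟨n⁻¹ * y * n, ⟨?_, ?_⟩, by group⟩
      · rw [← conj_mem_iff hn', show n * (n⁻¹ * y * n) * n⁻¹ = y by group]; exact hy.1
      · rw [← conj_mem_iff hn', e, show n * (n⁻¹ * y * n) * n⁻¹ = y by group]; exact hy.2
  have hId : cls 0 ⊆ I d := fun y hy => by
    refine ⟨h0 y hy, ?_⟩
    rw [hD.comm hD.mem (hD.subset 0 hy)]
    exact h0 _ (hD.mul_d 0 y hy)
  have hIa : I a ⊆ {d, a * d} := fun y hy => by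
    rcases hsub y hy.1 with hyd | hy0
    · exact Or.inl hyd
    · right
      show y = a * d
      by_contra hne'
      by_cases hay : a = y
      · have := hy.2
        rw [← hay, hD.elem a (hD.subset 0 ha)] at this
        exact hD.one_notMem this
      · have h' : a ≠ y * d := fun h => hne' (by rw [h, hD.mul_dd])
        rcases hsub _ hy.2 with h'' | h''
        · exact hne' (by rw [← h'', ← mul_assoc, hD.elem a (hD.subset 0 ha), one_mul])
        · exact hD.mul_zero a ha y hy0 hay h' h''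
  have hA : (I a).ncard ≤ 2 := (Set.ncard_le_ncard hIa).trans ((Set.ncard_insert_le _ _).trans (by simp))
  have hB : 44 ≤ (I d).ncard := (hD.card_cls 0).symm.le.trans (Set.ncard_le_ncard hId)
  omega

theorem ne2025 (hD : CountData d A cls) : (fusedSet d A).ncard ≠ 2025 := by
  intro hn
  have hs := hD.card_fusedSet
  have c0 := hD.cases_card 0
  have c1 := hD.cases_card 1
  have c2 := hD.cases_card 2
  simp only [Matrix.cons_val] at c0 c1 c2
  have h0 : ∀ a ∈ cls 0, (a * d ∈ fusedSet d A ↔ a ∉ fusedSet d A) :=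
    (hD.shape 0).2.1 (by simp only [Matrix.cons_val]; omega)
  have h1 : ∀ a ∈ cls 1, a ∈ fusedSet d A := (hD.shape 1).2.2 (by simp only [Matrix.cons_val]; omega)
  have h2 : ∀ a ∈ cls 2, a ∈ fusedSet d A := (hD.shape 2).2.2 (by simp only [Matrix.cons_val]; omega)
  have hT : ∀ x ∈ A, x ≠ 1 → x ∉ fusedSet d A → x ∈ cls 0 := fun x hx h h' => by
    obtain ⟨i, hi⟩ := hD.cover x hx h (fun e => h' (e ▸ hD.self_mem))
    fin_cases i
    · exact hi
    · exact absurd (h1 x hi) h'
    · exact absurd (h2 x hi) h'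
  -- two elements outside the conjugates, distinct modulo `d`
  have hex : ∃ t ∈ cls 0, ∃ t' ∈ cls 0, t ∉ fusedSet d A ∧ t' ∉ fusedSet d A ∧ t ≠ t' := by
    have hm : (cls 0 \ fusedSet d A).ncard = 22 := by
      have := Set.ncard_inter_add_ncard_sdiff_eq_ncard (cls 0) (fusedSet d A)
      rw [hD.card_cls] at this
      simp only [Matrix.cons_val] at this
      omega
    obtain ⟨t, ht, t', ht', hne⟩ := (Set.one_lt_ncard).1 (by omega : 1 < (cls 0 \ fusedSet d A).ncard)
    exact ⟨t, ht.1, t', ht'.1, ht.2, ht'.2, hne⟩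
  obtain ⟨t, ht, t', ht', htn, htn', hne⟩ := hex
  have hA := hD.subset 0
  have hne' : t ≠ t' * d := fun h => by rw [h] at htn; exact htn ((h0 t' ht').2 htn')
  have hp : t * t' ∈ fusedSet d A := by
    have h' := hD.mul_zero t ht t' ht' hne hne'
    by_contra hc
    refine h' (hT _ (A.mul_mem (hA ht) (hA ht')) (fun e => hne ?_) hc)
    rw [← mul_one t, ← hD.elem t' (hA ht'), ← mul_assoc, e, one_mul]
  obtain ⟨n, hn', hnp⟩ := hD.trans _ hp.1 hp.2
  set s := n * t * n⁻¹ with hsdef
  set s' := n * t' * n⁻¹ with hs'def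
  have hsA : s ∈ A := (Subgroup.mem_normalizer_iff.1 hn' t).1 (hA ht)
  have hs'A : s' ∈ A := (Subgroup.mem_normalizer_iff.1 hn' t').1 (hA ht')
  have hsn : s ∉ fusedSet d A := fun h => htn ((conj_mem_iff hn').1 h)
  have hsn' : s' ∉ fusedSet d A := fun h => htn' ((conj_mem_iff hn').1 h)
  have hss : s * s' = d := by rw [← hnp, hsdef, hs'def]; group
  have hs' : s' = s * d := by rw [← hss, ← mul_assoc, hD.elem s hsA, one_mul]
  have hs1 : s ≠ 1 := fun h => by
    rw [h, one_mul] at hss
    exact hsn' (hss ▸ hD.self_mem)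
  rw [hs'] at hsn'
  exact hsn' ((h0 s (hT s hsA hs1 hsn)).2 hsn)

theorem ne254 (hD : CountData d A cls) : (fusedSet d A).ncard ≠ 254 := by
  intro hn
  have hs := hD.card_fusedSet
  have c0 := hD.cases_card 0
  have c1 := hD.cases_card 1
  have c2 := hD.cases_card 2
  simp only [Matrix.cons_val] at c0 c1 c2
  have h0 : ∀ a ∈ cls 0, (a * d ∈ fusedSet d A ↔ a ∉ fusedSet d A) :=
    (hD.shape 0).2.1 (by simp only [Matrix.cons_val]; omega)
  have : Fact (Nat.Prime 127) := ⟨by norm_num⟩
  obtain ⟨φ, hφm, hφ⟩ := hD.exists_order (p := 127) (by rw [hn]; norm_num)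
  obtain ⟨f, hf, hF, hmod⟩ := exists_fix_exp (M := ↥A) hD.card hφ
  have hf4 : f = 4 := by
    have key : ∀ f < 11, 2 ^ 11 % 127 = 2 ^ f % 127 → f = 4 := by decide
    exact key f hf hmod
  subst hf4
  have hcomm : ∀ x y : ↥A, x * y = y * x := fun x y => Subtype.ext (hD.comm x.2 y.2)
  let ψ : ↥A →* ↥A :=
    { toFun := fun a => a * φ a
      map_one' := by simp
      map_mul' := fun a b => by
        rw [map_mul, mul_assoc, mul_assoc, ← mul_assoc b, hcomm b (φ a), mul_assoc] }
  have hinv : ∀ a : ↥A, a * a = 1 := fun a => Subtype.ext (hD.elem a a.2)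
  have hker : ψ.ker = fixSub φ := by
    ext a
    rw [MonoidHom.mem_ker, mem_fixSub]
    show a * φ a = 1 ↔ _
    constructor
    · intro h; exact mul_left_cancel (h.trans (hinv a).symm)
    · intro h; rw [h]; exact hinv a
  have hM : Nat.card ↥ψ.range = 128 := by
    have h1 := Subgroup.card_mul_index ψ.ker
    rw [Subgroup.index_ker, hker, hF, hD.card] at h1
    omega
  have hco : ∀ g ∈ Subgroup.zpowers φ, ∀ a : ↥A, a * g a ∈ ψ.range := by
    intro g hg
    obtain ⟨k, rfl⟩ : ∃ k : ℕ, φ ^ k = g := by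
      obtain ⟨k, hk⟩ := ((isOfFinOrder_of_finite φ).mem_powers_iff_mem_zpowers).2 hg
      exact ⟨k, hk⟩
    induction k with
    | zero => intro a; rw [pow_zero]; exact (hinv a).symm ▸ one_mem _
    | succ k ih =>
      intro a
      have h1 := ih ((Subgroup.zpowers φ).pow_mem (Subgroup.mem_zpowers φ) k) a
      have h2 : (φ ^ k) a * φ ((φ ^ k) a) ∈ ψ.range := ⟨(φ ^ k) a, rfl⟩
      have e : a * (φ ^ (k + 1)) a = (a * (φ ^ k) a) * ((φ ^ k) a * φ ((φ ^ k) a)) := by
        rw [pow_succ', MulAut.mul_apply, mul_assoc a, ← mul_assoc ((φ ^ k) a) ((φ ^ k) a), hinv, one_mul]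
      rw [e]; exact mul_mem h1 h2
  let O : Set ↥A := {a | (a : G) ∈ fusedSet d A}
  have hOst : ∀ g ∈ Subgroup.zpowers φ, ∀ m ∈ O, g m ∈ O := fun g hg m hm => (zpowers_stable hφm g hg m).2 hm
  have hOcard : O.ncard = 254 := by
    rw [← hn]
    refine Set.ncard_congr (fun a _ => (a : G)) (fun a ha => ha) (fun a b _ _ h => Subtype.ext h) ?_
    exact fun b hb => ⟨⟨b, hb.1⟩, hb, rfl⟩
  -- a stable subset without fixed points has cardinality divisible by 127
  have hOfix : ∀ a ∈ O, φ a ≠ a := by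
    intro a ha hfix
    have h1 := ncard_modEq_fix hφ O hOst
    rw [hOcard] at h1
    have h2 : (O ∩ (fixSub φ : Set ↥A)).ncard ≤ 16 := by
      refine (Set.ncard_le_ncard Set.inter_subset_right).trans ?_
      rw [← Nat.card_coe_set_eq, SetLike.coe_sort_coe, hF]; norm_num
    have h3 : 0 < (O ∩ (fixSub φ : Set ↥A)).ncard := (Set.ncard_pos).2 ⟨a, ha, hfix⟩
    unfold Nat.ModEq at h1
    omega
  let orb : ↥A → Set ↥A := fun a => {b | ∃ g ∈ Subgroup.zpowers φ, g a = b}
  have horb : ∀ a ∈ O, orb a ⊆ O ∧ 127 ≤ (orb a).ncard := by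
    intro a ha
    have hsub : orb a ⊆ O := by rintro b ⟨g, hg, rfl⟩; exact hOst g hg a ha
    refine ⟨hsub, ?_⟩
    have hst : ∀ g ∈ Subgroup.zpowers φ, ∀ m ∈ orb a, g m ∈ orb a := by
      rintro g hg m ⟨k, hk, rfl⟩; exact ⟨g * k, mul_mem hg hk, rfl⟩
    have h1 := ncard_modEq_fix hφ (orb a) hst
    have h2 : (orb a ∩ (fixSub φ : Set ↥A)).ncard = 0 := by
      rw [Set.ncard_eq_zero, Set.eq_empty_iff_forall_notMem]
      rintro b ⟨hb, hb'⟩
      exact hOfix b (hsub hb) hb'
    have h3 : 0 < (orb a).ncard := (Set.ncard_pos).2 ⟨a, 1, one_mem _, rfl⟩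
    rw [h2] at h1
    unfold Nat.ModEq at h1
    omega
  let x₁ : ↥A := ⟨d, hD.mem⟩
  have hx₁ : x₁ ∈ O := hD.self_mem
  obtain ⟨x₂, hx₂, hx₂'⟩ : ∃ x ∈ O, x ∉ orb x₁ := by
    by_contra hc
    push Not at hc
    have hzc : (orb x₁).ncard ≤ 127 := by
      have e : orb x₁ = (fun g : MulAut ↥A => g x₁) '' (Subgroup.zpowers φ : Set (MulAut ↥A)) := rfl
      rw [e]
      refine (Set.ncard_image_le).trans ?_
      rw [← Nat.card_coe_set_eq, SetLike.coe_sort_coe, Nat.card_zpowers, hφ]
    have := Set.ncard_le_ncard (s := O) (t := orb x₁) hc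
    omega
  have hdisj : Disjoint (orb x₁) (orb x₂) := by
    rw [Set.disjoint_left]
    rintro b ⟨g, hg, rfl⟩ ⟨k, hk, hk'⟩
    refine hx₂' ⟨k⁻¹ * g, mul_mem (inv_mem hk) hg, ?_⟩
    rw [MulAut.mul_apply, ← hk', ← MulAut.mul_apply, inv_mul_cancel, MulAut.one_apply]
  have hunion : orb x₁ ∪ orb x₂ = O := by
    refine Set.eq_of_subset_of_ncard_le (Set.union_subset (horb _ hx₁).1 (horb _ hx₂).1) ?_
    rw [Set.ncard_union_eq hdisj, hOcard]
    have := (horb _ hx₁).2
    have := (horb _ hx₂).2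
    omega
  -- the subgroup spanned is proper
  let K : Subgroup ↥A := ψ.range ⊔ (Subgroup.zpowers x₁ ⊔ Subgroup.zpowers x₂)
  have hK : ∀ a ∈ O, a ∈ K := by
    intro a ha
    have : ∀ x, x ∈ K → ∀ b ∈ orb x, b ∈ K := by
      rintro x hx b ⟨g, hg, rfl⟩
      have : g x = x * (x * g x) := by rw [← mul_assoc, hinv, one_mul]
      rw [this]
      exact mul_mem hx (Subgroup.mem_sup_left (hco g hg x))
    rw [← hunion] at ha
    rcases ha with ha | ha
    · exact this x₁ (Subgroup.mem_sup_right (Subgroup.mem_sup_left (Subgroup.mem_zpowers _))) a ha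
    · exact this x₂ (Subgroup.mem_sup_right (Subgroup.mem_sup_right (Subgroup.mem_zpowers _))) a ha
  have hKtop : K = ⊤ := by
    rw [eq_top_iff]
    intro a _
    have hle : Subgroup.closure (insert d (cls 0)) ≤ K.map A.subtype := by
      rw [Subgroup.closure_le]
      intro x hx
      have hx' : x = d ∨ x ∈ cls 0 := hx
      have hm : ∀ y ∈ fusedSet d A, y ∈ K.map A.subtype := fun y hy => ⟨⟨y, hy.1⟩, hK _ hy, rfl⟩
      rcases hx' with rfl | hx
      · exact hm _ hD.self_mem
      · by_cases h : x ∈ fusedSet d A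
        · exact hm x h
        · have := mul_mem (hm _ ((h0 x hx).2 h)) (hm d hD.self_mem)
          rwa [hD.mul_dd] at this
    obtain ⟨b, hb, hba⟩ := hle (hD.gen a.2)
    rwa [show a = b from Subtype.ext hba.symm]
  have hsup : ∀ P Q : Subgroup ↥A, Nat.card ↥(P ⊔ Q : Subgroup ↥A) ≤ Nat.card ↥P * Nat.card ↥Q := by
    intro P Q
    have : Q ≤ Subgroup.normalizer (P : Set ↥A) := fun q _ => by
      rw [Subgroup.mem_normalizer_iff]
      intro y; rw [hcomm q y, mul_inv_cancel_right]
    rw [← SetLike.coe_sort_coe, Subgroup.coe_mul_of_right_le_normalizer_left _ _ this, Nat.card_coe_set_eq,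
      ← SetLike.coe_sort_coe P, ← SetLike.coe_sort_coe Q, Nat.card_coe_set_eq, Nat.card_coe_set_eq]
    rw [← Set.image_mul_prod, ← Set.ncard_prod]
    exact Set.ncard_image_le
  have hle2 : ∀ x : ↥A, Nat.card ↥(Subgroup.zpowers x) ≤ 2 := fun x => by
    rw [Nat.card_zpowers]
    exact Nat.le_of_dvd (by norm_num) (orderOf_dvd_of_pow_eq_one (by rw [pow_two, hinv]))
  have h1 := hsup (Subgroup.zpowers x₁) (Subgroup.zpowers x₂)
  have h2 := hsup ψ.range (Subgroup.zpowers x₁ ⊔ Subgroup.zpowers x₂)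
  have h3 : Nat.card ↥K = 2 ^ 11 := by rw [hKtop, Subgroup.card_top, hD.card]
  have h4 := Nat.mul_le_mul (hle2 x₁) (hle2 x₂)
  have h5 : Nat.card ↥K ≤ 128 * 4 := h2.trans (by rw [hM]; exact Nat.mul_le_mul_left _ (h1.trans h4))
  omega

theorem ne276 (hD : CountData d A cls) : (fusedSet d A).ncard ≠ 276 := by
  intro hn
  have : Fact (Nat.Prime 23) := ⟨by norm_num⟩
  obtain ⟨i, m, c, hi, hm, he, hpc, hc⟩ := hD.sylow_spec (p := 23) (k := 5322240)
    (by rw [hn]) (by norm_num) (by decide) (by decide)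
  have hco : Nat.Coprime c 5322240 := Nat.coprime_of_dvd fun r hr h1 h2 => by
    rcases hc r hr h1 with rfl | rfl <;> norm_num at h2
  have hdvd : c ∣ 23 := (Nat.Coprime.dvd_mul_right hco).1 ⟨i * m, by rw [he]; ring⟩
  have hc23 : c = 23 := Nat.dvd_antisymm hdvd hpc
  subst hc23
  have e : i * m = 5322240 := by omega
  have h17 : m % 23 = 17 := by
    have := congrArg (· % 23) e
    simp only [Nat.mul_mod, hi, one_mul, Nat.mod_mod] at this
    simpa using this
  have hle : m ≤ 22 := Nat.le_of_dvd (by norm_num) hm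
  have : m = 17 := by omega
  subst this
  norm_num at hm

theorem ne2047 (hD : CountData d A cls) : (fusedSet d A).ncard ≠ 2047 := by
  intro hn
  have : Fact (Nat.Prime 89) := ⟨by norm_num⟩
  obtain ⟨i, m, c, hi, hm, he, hpc, hc⟩ := hD.sylow_spec (p := 89) (k := 23 * 443520)
    (by rw [hn]) (by norm_num) (by decide) (by decide)
  have hco : Nat.Coprime c 443520 := Nat.coprime_of_dvd fun r hr h1 h2 => by
    rcases hc r hr h1 with rfl | rfl <;> norm_num at h2
  have hdvd : c ∣ 89 * 23 := (Nat.Coprime.dvd_mul_right hco).1 ⟨i * m, by rw [mul_comm c, ← he, mul_assoc]⟩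
  obtain ⟨j, rfl⟩ := hpc
  have hj : j ∣ 23 := (Nat.mul_dvd_mul_iff_left (by norm_num)).1 hdvd
  have hle : m ≤ 88 := Nat.le_of_dvd (by norm_num) hm
  rcases (Nat.dvd_prime (by norm_num)).1 hj with rfl | rfl
  · have e : i * m = 23 * 443520 := by omega
    have h47 : m % 89 = 47 := by
      have := congrArg (· % 89) e
      simp only [Nat.mul_mod, hi, one_mul, Nat.mod_mod] at this
      simpa using this
    have : m = 47 := by omega
    subst this
    norm_num at hm
  · have e : i * m = 443520 := by omega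
    have h33 : m % 89 = 33 := by
      have := congrArg (· % 89) e
      simp only [Nat.mul_mod, hi, one_mul, Nat.mod_mod] at this
      simpa using this
    have : m = 33 := by omega
    subst this
    norm_num at hm

/-- Twenty-three conjugates, or exactly the complement of a subgroup of index two. -/
theorem conclusion (hD : CountData d A cls) :
    (fusedSet d A).ncard = 23 ∨
      ∀ a ∈ A, ∀ b ∈ A, (a * b ∈ fusedSet d A ↔ ¬ (a ∈ fusedSet d A ↔ b ∈ fusedSet d A)) := by
  have hmem := hD.card_mem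
  simp only [List.mem_cons, List.not_mem_nil, or_false] at hmem
  rcases hmem with h | h | h | h | h | h | h
  · exact Or.inl h
  · exact absurd h hD.ne45
  · exact absurd h hD.ne254
  · exact absurd h hD.ne276
  rotate_left
  · exact absurd h hD.ne2025
  · exact absurd h hD.ne2047
  right
  have hs := hD.card_fusedSet
  have c0 := hD.cases_card 0
  have c1 := hD.cases_card 1
  have c2 := hD.cases_card 2
  simp only [Matrix.cons_val] at c0 c1 c2
  have h0 := (hD.shape 0).2.1 (by simp only [Matrix.cons_val]; omega)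
  have h1 := (hD.shape 1).2.1 (by simp only [Matrix.cons_val]; omega)
  have h2 := (hD.shape 2).2.1 (by simp only [Matrix.cons_val]; omega)
  set O := fusedSet d A with hO
  have hpair : ∀ y ∈ O, d * y ∉ O := fun y hy hdy => by
    by_cases hd : y = d
    · rw [hd, hD.sq] at hdy; exact hD.one_notMem hdy
    · rw [hD.comm hD.mem hy.1] at hdy
      obtain ⟨i, hi⟩ := hD.cover y hy.1 (fun h => hD.one_notMem (h ▸ hy)) hd
      fin_cases i
      · exact (h0 y hi).1 hdy hy
      · exact (h1 y hi).1 hdy hy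
      · exact (h2 y hi).1 hdy hy
  have hfree : ∀ x ∈ O, ∀ y ∈ O, x * y ∉ O := fun x hx y hy hxy => by
    obtain ⟨n, hn, hnx⟩ := hD.trans x hx.1 hx.2
    refine hpair _ (conj_mem hn hy) ?_
    have := conj_mem hn hxy
    rwa [show n * (x * y) * n⁻¹ = n * x * n⁻¹ * (n * y * n⁻¹) by group, hnx] at this
  have hT : ((A : Set G) \ O).ncard = 1024 := by
    have hsub : O ⊆ (A : Set G) := fun x hx => hx.1
    rw [Set.ncard_sdiff hsub, h, ← Nat.card_coe_set_eq, SetLike.coe_sort_coe, hD.card]; norm_num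
  -- multiplication by a conjugate exchanges the conjugates with their complement
  have hflip : ∀ x ∈ O, ∀ t ∈ A, t ∉ O → x * t ∈ O := fun x hx t ht ht' => by
    have himg : (fun y => x * y) '' O = (A : Set G) \ O := by
      refine Set.eq_of_subset_of_ncard_le ?_ ?_
      · rintro _ ⟨y, hy, rfl⟩; exact ⟨A.mul_mem hx.1 hy.1, hfree x hx y hy⟩
      · rw [Set.ncard_image_of_injective _ (mul_right_injective x), h, hT]
    have hmem : t ∈ (A : Set G) \ O := ⟨ht, ht'⟩
    rw [← himg] at hmem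
    obtain ⟨y, hy, hyt⟩ := hmem
    rw [← hyt, ← mul_assoc, hD.elem x hx.1, one_mul]
    exact hy
  intro a ha b hb
  by_cases ha' : a ∈ O <;> by_cases hb' : b ∈ O
  · simpa [ha', hb'] using hfree a ha' b hb'
  · simpa [ha', hb'] using hflip a ha' b hb hb'
  · rw [hD.comm ha hb]
    simpa [ha', hb'] using hflip b hb' a ha ha'
  · simp only [ha', hb', not_true_eq_false, iff_false]
    intro hab
    have := hflip _ hab a ha ha'
    rw [hD.comm ha hb, mul_assoc, hD.elem a ha, mul_one] at this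
    exact hb' this

end Cfsg.Agent.Lib.M22Cover2.CountData
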