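import Mathlib

/-!
# Data for the count of conjugates of `d` in its elementary abelian subgroup of order `2^11`

`A` plays the preimage of the elementary abelian subgroup of order `2^10` generated by the members
it contains, in a double cover `C` of a group of type M(22); the three classes are the preimages of
the members, of the products of two and of the products of three commuting members.
-/

set_option autoImplicit false

namespace Cfsg.Agent.Lib.M22Cover2

variable {G : Type*} [Group G]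

/-- All that the count uses. -/
structure CountData (d : G) (A : Subgroup G) (cls : Fin 3 → Set G) : Prop where
  sq : d * d = 1
  ne : d ≠ 1
  mem : d ∈ A
  elem : ∀ a ∈ A, a * a = 1
  card : Nat.card A = 2 ^ 11
  self : ∀ g : G, (∀ a ∈ A, g * a = a * g) → g ∈ A
  stab : Nat.card ↥(Subgroup.centralizer ({d} : Set G) ⊓ Subgroup.normalizer (A : Set G)) = 2 ^ 11 * 443520
  subset : ∀ i, cls i ⊆ (A : Set G)
  cover : ∀ a ∈ A, a ≠ 1 → a ≠ d → ∃ i, a ∈ cls i
  avoid : ∀ i, (1 : G) ∉ cls i ∧ d ∉ cls i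
  mul_d : ∀ i, ∀ a ∈ cls i, a * d ∈ cls i
  disjoint : ∀ i j, ∀ a, a ∈ cls i → a ∈ cls j → i = j
  card_cls : ∀ i, (cls i).ncard = ![44, 462, 1540] i
  trans_cls : ∀ i, ∀ a ∈ cls i, ∀ b ∈ cls i, ∃ n ∈ Subgroup.normalizer (A : Set G),
    n * d = d * n ∧ (n * a * n⁻¹ = b ∨ n * a * n⁻¹ = b * d)
  gen : A ≤ Subgroup.closure (insert d (cls 0))
  mul_zero : ∀ a ∈ cls 0, ∀ b ∈ cls 0, a ≠ b → a ≠ b * d → a * b ∉ cls 0
  trans : ∀ x ∈ A, IsConj d x → ∃ n ∈ Subgroup.normalizer (A : Set G), n * x * n⁻¹ = d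
  fused : ∃ x ∈ A, IsConj d x ∧ x ≠ d

/-- The conjugates of `d` in `A`. -/
def fusedSet (d : G) (A : Subgroup G) : Set G := {x : G | x ∈ A ∧ IsConj d x}

namespace CountData

variable {d : G} {A : Subgroup G} {cls : Fin 3 → Set G}

theorem comm (hD : CountData d A cls) {a b : G} (ha : a ∈ A) (hb : b ∈ A) : a * b = b * a := by
  have h1 := hD.elem a ha
  have h2 := hD.elem b hb
  have h3 := hD.elem _ (A.mul_mem ha hb)
  have ea : a⁻¹ = a := inv_eq_of_mul_eq_one_right h1
  have eb : b⁻¹ = b := inv_eq_of_mul_eq_one_right h2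
  have eab : (a * b)⁻¹ = a * b := inv_eq_of_mul_eq_one_right h3
  rw [mul_inv_rev, ea, eb] at eab
  exact eab.symm

theorem mul_dd (hD : CountData d A cls) (a : G) : a * d * d = a := by
  rw [mul_assoc, hD.sq, mul_one]

theorem ne_mul_d (hD : CountData d A cls) (a : G) : a ≠ a * d :=
  fun h => hD.ne (mul_left_cancel (h.symm.trans (mul_one a).symm))

theorem inv_d (hD : CountData d A cls) : d⁻¹ = d := inv_eq_of_mul_eq_one_right hD.sq

theorem self_mem (hD : CountData d A cls) : d ∈ fusedSet d A := ⟨hD.mem, IsConj.refl d⟩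

theorem one_notMem (hD : CountData d A cls) : (1 : G) ∉ fusedSet d A := by
  rintro ⟨-, h⟩
  exact hD.ne (isConj_one_left.1 h)

theorem conj_mem {n : G} (hn : n ∈ Subgroup.normalizer (A : Set G)) {x : G} (hx : x ∈ fusedSet d A) :
    n * x * n⁻¹ ∈ fusedSet d A :=
  ⟨(Subgroup.mem_normalizer_iff.1 hn x).1 hx.1, hx.2.trans (isConj_iff.2 ⟨n, rfl⟩)⟩

theorem conj_mem_iff {n : G} (hn : n ∈ Subgroup.normalizer (A : Set G)) {x : G} :
    n * x * n⁻¹ ∈ fusedSet d A ↔ x ∈ fusedSet d A := by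
  refine ⟨fun h => ?_, conj_mem hn⟩
  have := conj_mem (inv_mem hn) h
  simpa [mul_assoc] using this

/-- In each class the pairs `{a, ad}` meet the conjugates of `d` all in the same way. -/
theorem trichotomy (hD : CountData d A cls) (i : Fin 3) :
    (∀ a ∈ cls i, a ∉ fusedSet d A) ∨ (∀ a ∈ cls i, a ∈ fusedSet d A) ∨
      ∀ a ∈ cls i, (a * d ∈ fusedSet d A ↔ a ∉ fusedSet d A) := by
  classical
  have key : ∀ a ∈ cls i, ∀ b ∈ cls i,
      ((a ∈ fusedSet d A ∧ a * d ∈ fusedSet d A) → b ∈ fusedSet d A ∧ b * d ∈ fusedSet d A) ∧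
      ((a ∈ fusedSet d A ∨ a * d ∈ fusedSet d A) → b ∈ fusedSet d A ∨ b * d ∈ fusedSet d A) := by
    intro a ha b hb
    obtain ⟨n, hn, hnd, hab⟩ := hD.trans_cls i a ha b hb
    have hd' : n * (a * d) * n⁻¹ = n * a * n⁻¹ * d := by
      have : n * d * n⁻¹ = d := by rw [hnd, mul_assoc, mul_inv_cancel, mul_one]
      calc n * (a * d) * n⁻¹ = n * a * n⁻¹ * (n * d * n⁻¹) := by group
        _ = n * a * n⁻¹ * d := by rw [this]
    rw [← conj_mem_iff hn (x := a), ← conj_mem_iff hn (x := a * d), hd']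
    rcases hab with h | h <;> rw [h]
    · exact ⟨id, id⟩
    · rw [hD.mul_dd]; exact ⟨And.symm, Or.symm⟩
  by_cases h0 : ∃ a ∈ cls i, a ∈ fusedSet d A ∧ a * d ∈ fusedSet d A
  · obtain ⟨a, ha, h⟩ := h0
    exact Or.inr (Or.inl fun b hb => ((key a ha b hb).1 h).1)
  · by_cases h1 : ∃ a ∈ cls i, a ∈ fusedSet d A
    · obtain ⟨a, ha, h⟩ := h1
      refine Or.inr (Or.inr fun b hb => ⟨fun h' hb' => h0 ⟨b, hb, hb', h'⟩, fun hb' => ?_⟩)
      rcases (key a ha b hb).2 (Or.inl h) with h' | h'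
      · exact absurd h' hb'
      · exact h'
    · exact Or.inl fun a ha h => h1 ⟨a, ha, h⟩

variable [Finite G]

theorem card_class_inter (hD : CountData d A cls) (i : Fin 3) :
    ((∀ a ∈ cls i, a ∉ fusedSet d A) ∧ (cls i ∩ fusedSet d A).ncard = 0) ∨
    ((∀ a ∈ cls i, (a * d ∈ fusedSet d A ↔ a ∉ fusedSet d A)) ∧
      2 * (cls i ∩ fusedSet d A).ncard = (cls i).ncard) ∨
    ((∀ a ∈ cls i, a ∈ fusedSet d A) ∧ (cls i ∩ fusedSet d A).ncard = (cls i).ncard) := by
  rcases hD.trichotomy i with h | h | h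
  · refine Or.inl ⟨h, ?_⟩
    rw [Set.ncard_eq_zero, Set.eq_empty_iff_forall_notMem]
    exact fun a ha => h a ha.1 ha.2
  · exact Or.inr (Or.inr ⟨h, by rw [Set.inter_eq_left.2 h]⟩)
  · refine Or.inr (Or.inl ⟨h, ?_⟩)
    have e : (cls i \ fusedSet d A).ncard = (cls i ∩ fusedSet d A).ncard := by
      refine Set.ncard_congr (fun a _ => a * d) ?_ ?_ ?_
      · exact fun a ha => ⟨hD.mul_d i a ha.1, (h a ha.1).2 ha.2⟩
      · exact fun a b _ _ hab => mul_right_cancel hab
      · intro b hb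
        refine ⟨b * d, ⟨hD.mul_d i b hb.1, fun hbd => ?_⟩, hD.mul_dd b⟩
        exact (h b hb.1).1 hbd hb.2
    have := Set.ncard_inter_add_ncard_sdiff_eq_ncard (cls i) (fusedSet d A)
    omega

theorem card_fusedSet (hD : CountData d A cls) :
    (fusedSet d A).ncard = 1 + (cls 0 ∩ fusedSet d A).ncard + (cls 1 ∩ fusedSet d A).ncard
      + (cls 2 ∩ fusedSet d A).ncard := by
  have e : fusedSet d A = (({d} ∪ cls 0 ∩ fusedSet d A) ∪ cls 1 ∩ fusedSet d A) ∪ cls 2 ∩ fusedSet d A := by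
    ext x
    constructor
    · intro hx
      by_cases hd : x = d
      · exact Or.inl (Or.inl (Or.inl hd))
      · obtain ⟨i, hi⟩ := hD.cover x hx.1 (fun h => hD.one_notMem (h ▸ hx)) hd
        fin_cases i
        · exact Or.inl (Or.inl (Or.inr ⟨hi, hx⟩))
        · exact Or.inl (Or.inr ⟨hi, hx⟩)
        · exact Or.inr ⟨hi, hx⟩
    · rintro (((hx | hx) | hx) | hx)
      · rw [Set.mem_singleton_iff.1 hx]; exact hD.self_mem
      all_goals exact hx.2
  conv_lhs => rw [e]
  have hne : ∀ {i j : Fin 3}, i ≠ j → ∀ {x : G}, x ∈ cls i → x ∉ cls j :=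
    fun h x hx hy => h (hD.disjoint _ _ x hx hy)
  rw [Set.ncard_union_eq, Set.ncard_union_eq, Set.ncard_union_eq, Set.ncard_singleton]
  all_goals rw [Set.disjoint_left]
  · intro x hx hy; rw [Set.mem_singleton_iff.1 hx] at hy; exact (hD.avoid 0).2 hy.1
  · rintro x (hx | hx) hy
    · rw [Set.mem_singleton_iff.1 hx] at hy; exact (hD.avoid 1).2 hy.1
    · exact hne (by decide) hx.1 hy.1
  · rintro x ((hx | hx) | hx) hy
    · rw [Set.mem_singleton_iff.1 hx] at hy; exact (hD.avoid 2).2 hy.1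
    · exact hne (by decide) hx.1 hy.1
    · exact hne (by decide) hx.1 hy.1

end CountData

end Cfsg.Agent.Lib.M22Cover2
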