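import Cfsg.Agent.Lib.M22Cover2.Classes
import Cfsg.Agent.Lib.M22Cover2.Frame
import Cfsg.Agent.Lib.Fischer3T52.LiftM22
import Cfsg.Prelude.Def_Transfer

/-!
# A double cover of a group of type M(22) as an involution centraliser: the preimage of a radical
-/

set_option autoImplicit false
set_option linter.unusedSectionVars false

namespace Cfsg.Agent.Lib.M22Cover2

open Cfsg Cfsg.Agent.Lib.M22Struct66 Cfsg.Agent.Lib.Fischer3T52
open Cfsg.Agent.Lib.ThreeTransp

variable {G : Type*} [Group G] {d : G} {U : Type*} [Group U]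

/-- The involution inside its centraliser. -/
def zc (d : G) : ↥(Subgroup.centralizer ({d} : Set G)) := ⟨d, Subgroup.mem_centralizer_singleton_iff.2 rfl⟩

/-- The preimage in `G` of a subgroup of the quotient. -/
def lift22 (π : ↥(Subgroup.centralizer ({d} : Set G)) →* U) (H : Subgroup U) : Subgroup G :=
  (H.comap π).map (Subgroup.centralizer ({d} : Set G)).subtype

theorem coe_mem_lift22 {π : ↥(Subgroup.centralizer ({d} : Set G)) →* U} {H : Subgroup U}
    {c : ↥(Subgroup.centralizer ({d} : Set G))} : (c : G) ∈ lift22 π H ↔ π c ∈ H :=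
  ⟨fun ⟨c', h, e⟩ => Subtype.ext (p := fun g => g ∈ Subgroup.centralizer ({d} : Set G)) e ▸ h, fun h => ⟨c, h, rfl⟩⟩

/-- The hypotheses on the centraliser. -/
structure Setup22 {D : Set U} {F : Type} [Field F] [Fintype F]
    (π : ↥(Subgroup.centralizer ({d} : Set G)) →* U) (_hB : Base D F) : Prop where
  sq : d * d = 1
  ne : d ≠ 1
  cover : TwoCover π (zc d)

/-- The subgroup generated by commuting elements of square 1 has exponent 2. -/
theorem sq_of_closure {C : Type*} [Group C] {M : Set C} (hc : ∀ a ∈ M, ∀ b ∈ M, Commute a b)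
    (hs : ∀ a ∈ M, a * a = 1) {x : C} (hx : x ∈ Subgroup.closure M) : x * x = 1 := by
  let _ : IsMulCommutative ↥(Subgroup.closure M) := Subgroup.isMulCommutative_closure hc
  induction hx using Subgroup.closure_induction with
  | mem y hy => exact hs y hy
  | one => exact one_mul 1
  | mul y z hy hz iy iz =>
    have hyz : Commute y z := congrArg Subtype.val
      (IsMulCommutative.is_comm.comm (⟨y, hy⟩ : ↥(Subgroup.closure M)) ⟨z, hz⟩)
    rw [hyz.symm.mul_mul_mul_comm, iy, iz, one_mul]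
  | inv y hy iy => rw [← mul_inv_rev, iy, inv_one]

variable [Finite G] [Finite U] {D : Set U} {F : Type} [Field F] [Fintype F]
  {π : ↥(Subgroup.centralizer ({d} : Set G)) →* U} {hB : Base D F}

namespace Setup22

variable (hS : Setup22 π hB)
include hS

theorem zc_ne : zc d ≠ 1 := fun h => hS.ne (congrArg Subtype.val h)

theorem d_mem (H : Subgroup U) : d ∈ lift22 π H :=
  ⟨zc d, show π (zc d) ∈ H by rw [hS.cover.map_z]; exact one_mem H, rfl⟩

theorem card_ker : Nat.card ↥π.ker = 2 := by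
  rw [Nat.card_eq_two_iff]
  refine ⟨1, ⟨zc d, hS.cover.map_z⟩, fun h => hS.zc_ne (congrArg Subtype.val h).symm, ?_⟩
  ext ⟨c, hc⟩
  simp only [Set.mem_insert_iff, Set.mem_singleton_iff, Set.mem_univ, iff_true]
  rcases hS.cover.ker c hc with rfl | rfl <;> simp

theorem card_comap (H : Subgroup U) : Nat.card ↥(H.comap π) = 2 * Nat.card ↥H := by
  let f : ↥(H.comap π) →* U := π.comp (H.comap π).subtype
  have hr : f.range = H := by
    ext x
    constructor
    · rintro ⟨c, rfl⟩; exact c.2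
    · intro hx
      obtain ⟨c, rfl⟩ := hS.cover.surj x
      exact ⟨⟨c, hx⟩, rfl⟩
  have hk : Nat.card ↥f.ker = 2 := by
    refine (Nat.card_congr (β := ↥π.ker) ⟨fun c => ⟨c.1.1, c.2⟩,
      fun c => ⟨⟨c.1, show π c.1 ∈ H by rw [c.2]; exact one_mem H⟩, c.2⟩, fun _ => rfl, fun _ => rfl⟩).trans hS.card_ker
  rw [← Subgroup.card_mul_index f.ker, hk, Subgroup.index_ker, hr]

theorem card_lift22 (H : Subgroup U) : Nat.card ↥(lift22 π H) = 2 * Nat.card ↥H := by
  rw [lift22, Subgroup.card_map_of_injective Subtype.val_injective, hS.card_comap]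

theorem lift_cases {c c' : ↥(Subgroup.centralizer ({d} : Set G))} (h : π c = π c') :
    (c : G) = c' ∨ (c : G) = (c' : G) * d := by
  rcases hS.cover.eq_or c c' h with rfl | rfl
  exacts [Or.inl rfl, Or.inr rfl]

variable {R : Subgroup U} (hR : IsRad D R)
include hR

theorem comap_le_closure : R.comap π ≤ Subgroup.closure {c | π c ∈ D ∧ π c ∈ R} := by
  intro c hc
  set K := Subgroup.closure {c | π c ∈ D ∧ π c ∈ R}
  have hle : R ≤ K.map π := (hB.gen hR).trans ((Subgroup.closure_le _).2 fun y hy => by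
    obtain ⟨b, rfl⟩ := hS.cover.surj y
    exact ⟨b, Subgroup.subset_closure hy, rfl⟩)
  obtain ⟨b, hb, hbc⟩ := hle hc
  obtain ⟨e, he, heR⟩ := hR.has
  obtain ⟨a, rfl⟩ := hS.cover.surj e
  have hz : zc d ∈ K := by
    have h1 : a ∈ K := Subgroup.subset_closure ⟨he, heR⟩
    have hπ : π (a * zc d) = π a := by rw [map_mul, hS.cover.map_z, mul_one]
    have h2 : a * zc d ∈ K := Subgroup.subset_closure ⟨hπ.symm ▸ he, hπ.symm ▸ heR⟩
    simpa using K.mul_mem (K.inv_mem h1) h2
  rcases hS.cover.eq_or c b hbc.symm with rfl | rfl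
  exacts [hb, K.mul_mem hb hz]

theorem comap_sq {c : ↥(Subgroup.centralizer ({d} : Set G))} (hc : c ∈ R.comap π) : c * c = 1 :=
  sq_of_closure
    (fun a ha b hb => m22_comm hB.charted.grp hB.m22 hS.cover ha.1 hb.1 (comm_of_sq hR.sq ha.2 hb.2) a b rfl rfl)
    (fun a ha => m22_sq hB.charted.grp hB.m22 hS.cover ha.1 a rfl) (hS.comap_le_closure hR hc)

theorem lift_sq : ∀ a ∈ lift22 π R, a * a = 1 := by
  rintro _ ⟨c, hc, rfl⟩
  exact congrArg Subtype.val (hS.comap_sq hR hc)

theorem card_lift : Nat.card ↥(lift22 π R) = 2 ^ 11 := by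
  rw [hS.card_lift22, hR.card]; norm_num

theorem self_centralizing {g : G} (hg : ∀ a ∈ lift22 π R, g * a = a * g) : g ∈ lift22 π R := by
  have hgC : g ∈ Subgroup.centralizer ({d} : Set G) :=
    Subgroup.mem_centralizer_singleton_iff.2 (hg d (hS.d_mem _))
  refine ⟨⟨g, hgC⟩, hB.self_centralizing hR fun y hy => ?_, rfl⟩
  obtain ⟨c, rfl⟩ := hS.cover.surj y
  rw [← map_mul, ← map_mul]
  exact congrArg π (Subtype.ext (hg _ ⟨c, hy, rfl⟩))

omit hR in
/-- An elementary abelian subgroup of the centraliser has order at most `2^11`. -/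
theorem image_facts {B : Subgroup ↥(Subgroup.centralizer ({d} : Set G))} (hsq : ∀ b ∈ B, b * b = 1) :
    Nat.card ↥B ≤ 2 ^ 11 ∧ (2 ^ 11 ≤ Nat.card ↥B → IsRad D (B.map π) ∧ B = (B.map π).comap π) := by
  have h2 : ∀ x ∈ B.map π, x * x = 1 := by
    rintro _ ⟨b, hb, rfl⟩
    rw [← map_mul, hsq b hb, map_one]
  have hle : Nat.card ↥B ≤ 2 * Nat.card ↥(B.map π) := by
    rw [← hS.card_comap]; exact Subgroup.card_le_of_le (Subgroup.le_comap_map π B)
  have hm : Nat.card ↥(B.map π) ≤ 1024 := by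
    by_contra h
    have := (hB.isRad_of_card h2 (by omega)).card
    omega
  refine ⟨by omega, fun h => ?_⟩
  refine ⟨hB.isRad_of_card h2 (by omega), Subgroup.eq_of_le_of_card_ge (Subgroup.le_comap_map π B) ?_⟩
  rw [hS.card_comap]; omega

/-- Elementary abelian subgroups of order `2^11` through `d` are conjugate to the preimage. -/
theorem exists_conj_lift {B : Subgroup G} (hd : d ∈ B) (hsq : ∀ b ∈ B, b * b = 1)
    (hcard : Nat.card ↥B = 2 ^ 11) :
    ∃ c : G, c * d = d * c ∧ ∀ b : G, b ∈ B → c * b * c⁻¹ ∈ lift22 π R := by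
  have hBC : B ≤ Subgroup.centralizer ({d} : Set G) := fun b hb =>
    Subgroup.mem_centralizer_singleton_iff.2 (comm_of_sq hsq hb hd).eq
  set B' := B.subgroupOf (Subgroup.centralizer ({d} : Set G))
  have hB'card : Nat.card ↥B' = 2 ^ 11 := by
    rw [Nat.card_congr (Subgroup.subgroupOfEquivOfLe hBC).toEquiv, hcard]
  obtain ⟨hrad, -⟩ := (hS.image_facts (B := B') fun b hb => Subtype.ext (hsq b.1 hb)).2 hB'card.ge
  obtain ⟨g, hg⟩ := hB.exists_conj_eq hR hrad
  obtain ⟨c, rfl⟩ := hS.cover.surj g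
  refine ⟨c, Subgroup.mem_centralizer_singleton_iff.1 c.2, fun b hb => ?_⟩
  refine ⟨c * ⟨b, hBC hb⟩ * c⁻¹, show π (c * ⟨b, hBC hb⟩ * c⁻¹) ∈ R from ?_, rfl⟩
  rw [map_mul, map_mul, map_inv, ← hg]
  exact ⟨π ⟨b, hBC hb⟩, ⟨⟨b, hBC hb⟩, hb, rfl⟩, rfl⟩

theorem normalizer_eq :
    Subgroup.centralizer ({d} : Set G) ⊓ Subgroup.normalizer (lift22 π R : Set G) =
      lift22 π (Subgroup.normalizer (R : Set U)) := by
  refine le_antisymm ?_ ?_
  · rintro x ⟨hxC, hxN⟩
    refine ⟨⟨x, hxC⟩, Subgroup.mem_normalizer_iff.2 fun y => ?_, rfl⟩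
    obtain ⟨c, rfl⟩ := hS.cover.surj y
    rw [← map_inv, ← map_mul, ← map_mul, ← coe_mem_lift22, ← coe_mem_lift22]
    exact Subgroup.mem_normalizer_iff.1 hxN _
  · rintro _ ⟨c, hc, rfl⟩
    refine ⟨c.2, Subgroup.mem_normalizer_iff.2 fun x => ?_⟩
    constructor
    · rintro ⟨y, hy, rfl⟩
      refine ⟨c * y * c⁻¹, show π (c * y * c⁻¹) ∈ R from ?_, rfl⟩
      rw [map_mul, map_mul, map_inv]
      exact (Subgroup.mem_normalizer_iff.1 hc _).1 hy
    · rintro ⟨y, hy, hxy⟩
      refine ⟨c⁻¹ * y * c, show π (c⁻¹ * y * c) ∈ R from (Subgroup.mem_normalizer_iff.1 hc _).2 ?_, ?_⟩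
      · rw [map_mul, map_mul, map_inv, show π c * ((π c)⁻¹ * π y * π c) * (π c)⁻¹ = π y by group]
        exact hy
      · show (c : G)⁻¹ * (y : G) * c = x
        rw [show (y : G) = (c : G) * x * (c : G)⁻¹ from hxy]
        group

/-- The classes in the preimage. -/
theorem countData (hnwc : ∃ g : G, g * d * g⁻¹ ∈ Subgroup.centralizer ({d} : Set G) ∧ g * d * g⁻¹ ≠ d) :
    ∃ cls, CountData d (lift22 π R) cls ∧ ∀ a ∈ cls 0, ∀ h : a ∈ Subgroup.centralizer ({d} : Set G), π ⟨a, h⟩ ∈ D := by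
  let cls : Fin 3 → Set G := fun i => {a | ∃ c, π c ∈ radCls D R i ∧ ((c : ↥(Subgroup.centralizer ({d} : Set G))) : G) = a}
  have hcls : ∀ i (c : ↥(Subgroup.centralizer ({d} : Set G))), (c : G) ∈ cls i ↔ π c ∈ radCls D R i :=
    fun i c => ⟨fun ⟨c', h, e⟩ => Subtype.ext (p := fun g => g ∈ Subgroup.centralizer ({d} : Set G)) e ▸ h,
      fun h => ⟨c, h, rfl⟩⟩
  refine ⟨cls, ?_, fun a ha h => ((hB.mem_cls_zero).1 ((hcls 0 ⟨a, h⟩).1 ha)).1⟩
  have hcard : ∀ i, (cls i).ncard = 2 * (radCls D R i).ncard := by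
    intro i
    classical
    choose L hL using hS.cover.surj
    have hdisj : Disjoint ((fun y => (L y : G)) '' radCls D R i) ((fun y => (L y : G) * d) '' radCls D R i) := by
      rw [Set.disjoint_left]
      rintro _ ⟨y, hy, rfl⟩ ⟨y', hy', he⟩
      have he' : L y' * zc d = L y := Subtype.ext he
      have hyy : y' = y := by
        have := congrArg π he'
        rwa [map_mul, hS.cover.map_z, mul_one, hL, hL] at this
      subst hyy
      exact hS.ne (mul_left_cancel (he.trans (mul_one _).symm))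
    have hset : cls i = (fun y => (L y : G)) '' radCls D R i ∪ (fun y => (L y : G) * d) '' radCls D R i := by
      ext a
      constructor
      · rintro ⟨c, hc, rfl⟩
        rcases hS.lift_cases (c := c) (c' := L (π c)) (hL _).symm with h | h
        · exact Or.inl ⟨π c, hc, h.symm⟩
        · exact Or.inr ⟨π c, hc, h.symm⟩
      · rintro (⟨y, hy, rfl⟩ | ⟨y, hy, rfl⟩)
        · exact ⟨L y, (hL y).symm ▸ hy, rfl⟩
        · exact ⟨L y * zc d, by rwa [map_mul, hS.cover.map_z, mul_one, hL], rfl⟩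
    have hinj : Function.Injective fun y => (L y : G) := fun y y' h => by
      have := congrArg π (Subtype.ext (p := fun g => g ∈ Subgroup.centralizer ({d} : Set G)) h)
      rwa [hL, hL] at this
    rw [hset, Set.ncard_union_eq hdisj, Set.ncard_image_of_injective _ hinj,
      Set.ncard_image_of_injective _ fun y y' h => hinj (mul_right_cancel h)]
    omega
  exact
    { sq := hS.sq
      ne := hS.ne
      mem := hS.d_mem _
      elem := hS.lift_sq hR
      card := hS.card_lift hR
      self := fun g hg => hS.self_centralizing hR hg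
      stab := by rw [hS.normalizer_eq hR, hS.card_lift22, hB.card_normalizer hR]; norm_num
      subset := by rintro i _ ⟨c, hc, rfl⟩; exact coe_mem_lift22.2 hc.1
      cover := by
        rintro _ ⟨c, hc, rfl⟩ h1 hd
        obtain ⟨i, hi⟩ := hB.cls_cover hR hc (x := π c) fun h => by
          rcases hS.cover.ker c h with rfl | rfl
          exacts [h1 rfl, hd rfl]
        exact ⟨i, c, hi, rfl⟩
      avoid := fun i => by
        refine ⟨fun ⟨c, hc, e⟩ => hB.one_notMem_cls (R := R) i ?_, fun ⟨c, hc, e⟩ => hB.one_notMem_cls (R := R) i ?_⟩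
        · rwa [show c = 1 from Subtype.ext e, map_one] at hc
        · rwa [show c = zc d from Subtype.ext e, hS.cover.map_z] at hc
      mul_d := by
        rintro i _ ⟨c, hc, rfl⟩
        exact ⟨c * zc d, by rwa [map_mul, hS.cover.map_z, mul_one], rfl⟩
      disjoint := by
        rintro i j a ⟨c, hc, rfl⟩ hj
        exact hB.cls_disjoint i j _ hc ((hcls j c).1 hj)
      card_cls := fun i => by
        obtain ⟨c0, c1, c2⟩ := hB.card_cls hR
        rw [hcard]
        fin_cases i <;> simp [c0, c1, c2]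
      trans_cls := by
        rintro i _ ⟨c, hc, rfl⟩ _ ⟨c', hc', rfl⟩
        obtain ⟨n, hn, hnc⟩ := hB.cls_trans hR i hc hc'
        obtain ⟨m, rfl⟩ := hS.cover.surj n
        have hm : (m : G) ∈ lift22 π (Subgroup.normalizer (R : Set U)) := coe_mem_lift22.2 hn
        rw [← hS.normalizer_eq hR] at hm
        refine ⟨m, hm.2, Subgroup.mem_centralizer_singleton_iff.1 m.2, ?_⟩
        exact hS.lift_cases (c := m * c * m⁻¹) (c' := c') (by rw [map_mul, map_mul, map_inv, hnc])
      gen := by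
        rintro _ ⟨c, hc, rfl⟩
        have hle : Subgroup.closure {c | π c ∈ D ∧ π c ∈ R} ≤
            (Subgroup.closure (insert d (cls 0))).comap (Subgroup.centralizer ({d} : Set G)).subtype :=
          (Subgroup.closure_le _).2 fun b hb =>
            Subgroup.subset_closure (Or.inr ((hcls 0 b).2 (hB.mem_cls_zero.2 hb)))
        exact hle (hS.comap_le_closure hR hc)
      mul_zero := by
        rintro _ ⟨c, hc, rfl⟩ _ ⟨c', hc', rfl⟩ hne hne' h
        rw [hB.mem_cls_zero] at hc hc'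
        have h' : π (c * c') ∈ radCls D R 0 := (hcls 0 (c * c')).1 h
        rw [hB.mem_cls_zero, map_mul] at h'
        refine hB.not_one_two (hB.commProd_two hc.1 hc'.1 (fun e => ?_) (comm_of_sq hR.sq hc.2 hc'.2)) h'.1
        rcases hS.lift_cases e with k | k
        exacts [hne k, hne' k]
      trans := fun x hx hxd => by
        obtain ⟨g, hg⟩ := isConj_iff.1 hxd
        set A := lift22 π R with hA
        have hd' : d ∈ A.map (MulAut.conj g⁻¹).toMonoidHom := ⟨x, hx, by
          show g⁻¹ * x * g⁻¹⁻¹ = d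
          rw [← hg]; group⟩
        obtain ⟨c, hcd, hc⟩ := hS.exists_conj_lift hR hd' (by
          rintro _ ⟨a, ha, rfl⟩
          rw [← map_mul, hS.lift_sq hR a ha, map_one]) (by
          rw [Subgroup.card_map_of_injective (MulAut.conj g⁻¹).injective, hS.card_lift hR])
        refine ⟨c * g⁻¹, Subgroup.mem_normalizer_iff_map_conj_eq.2
          (Subgroup.eq_of_le_of_card_ge ?_ ?_), ?_⟩
        · rintro _ ⟨a, ha, rfl⟩
          have := hc _ ⟨a, ha, rfl⟩
          show c * g⁻¹ * a * (c * g⁻¹)⁻¹ ∈ A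
          convert this using 1
          show _ = c * (g⁻¹ * a * g⁻¹⁻¹) * c⁻¹
          group
        · exact (Subgroup.card_map_of_injective (MulAut.conj (c * g⁻¹)).injective).ge
        · rw [← hg, show c * g⁻¹ * (g * d * g⁻¹) * (c * g⁻¹)⁻¹ = c * d * c⁻¹ by group, hcd, mul_inv_cancel_right]
      fused := by
        obtain ⟨g, hgC, hgd⟩ := hnwc
        set x : ↥(Subgroup.centralizer ({d} : Set G)) := ⟨g * d * g⁻¹, hgC⟩
        have hx : x * x = 1 := Subtype.ext (show g * d * g⁻¹ * (g * d * g⁻¹) = 1 by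
          rw [show g * d * g⁻¹ * (g * d * g⁻¹) = g * (d * d) * g⁻¹ by group, hS.sq, mul_one, mul_inv_cancel])
        obtain ⟨h, hh⟩ := hB.exists_conj_into hR (x := π x) (by rw [← map_mul, hx, map_one])
        obtain ⟨c, rfl⟩ := hS.cover.surj h
        refine ⟨(c : G) * (g * d * g⁻¹) * (c : G)⁻¹, ⟨c * x * c⁻¹, ?_, rfl⟩, ?_, fun he => ?_⟩
        · show π (c * x * c⁻¹) ∈ R
          rw [map_mul, map_mul, map_inv]; exact hh
        · exact isConj_iff.2 ⟨(c : G) * g, by group⟩
        · refine hgd ?_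
          have hc := Subgroup.mem_centralizer_singleton_iff.1 c.2
          rw [mul_inv_eq_iff_eq_mul, ← hc] at he
          exact mul_left_cancel he }

omit hR in
/-- The Thompson subgroup of a Sylow 2-subgroup of the centraliser. -/
theorem exists_thompson (hex : ∃ R : Subgroup U, IsRad D R) (S : Sylow 2 ↥(Subgroup.centralizer ({d} : Set G))) :
    ∃ R, IsRad D R ∧
      (thompsonSubgroupOf 2 (S : Subgroup ↥(Subgroup.centralizer ({d} : Set G)))).map
        (Subgroup.centralizer ({d} : Set G)).subtype = lift22 π R := by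
  obtain ⟨R₀, hR₀⟩ := hex
  obtain ⟨S', hS'⟩ := (show IsPGroup 2 ↥(R₀.comap π) from fun x => ⟨1, Subtype.ext (by
    simpa [pow_two] using hS.comap_sq hR₀ x.2)⟩).exists_le_sylow
  obtain ⟨h, hh⟩ := MulAction.exists_smul_eq ↥(Subgroup.centralizer ({d} : Set G)) S' S
  set E0 := (R₀.comap π).map (MulAut.conj h).toMonoidHom with hE0
  have hE0sq : ∀ b ∈ E0, b * b = 1 := by
    rintro _ ⟨x, hx, rfl⟩; rw [← map_mul, hS.comap_sq hR₀ hx, map_one]
  have hE0S : E0 ≤ (S : Subgroup ↥(Subgroup.centralizer ({d} : Set G))) := by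
    rintro _ ⟨x, hx, rfl⟩
    rw [← hh]
    exact Subgroup.smul_mem_pointwise_smul x (MulAut.conj h) _ (hS' hx)
  have hE0card : Nat.card ↥E0 = 2 ^ 11 := by
    rw [hE0, Subgroup.card_map_of_injective (MulAut.conj h).injective, hS.card_comap, hR₀.card]; norm_num
  obtain ⟨hR, hE0eq⟩ := (hS.image_facts hE0sq).2 hE0card.ge
  refine ⟨E0.map π, hR, ?_⟩
  have hpS : IsPGroup 2 ↥((S : Subgroup ↥(Subgroup.centralizer ({d} : Set G))).map π) := S.2.map π
  have huniq : ∀ E : Subgroup ↥(Subgroup.centralizer ({d} : Set G)), E ≤ (S : Subgroup ↥(Subgroup.centralizer ({d} : Set G))) →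
      (∀ b ∈ E, b * b = 1) → 2 ^ 11 ≤ Nat.card ↥E → E = E0 := by
    intro E hE hsq hcard
    obtain ⟨hR', hEeq⟩ := (hS.image_facts hsq).2 hcard
    rw [hEeq, hE0eq, hB.eq_in_two hpS hR hR' (Subgroup.map_mono hE0S) (Subgroup.map_mono hE)]
  set M0 : Subgroup ↥(S : Subgroup ↥(Subgroup.centralizer ({d} : Set G))) := E0.subgroupOf (S : Subgroup ↥(Subgroup.centralizer ({d} : Set G))) with hM0
  have hmap0 : M0.map (S : Subgroup ↥(Subgroup.centralizer ({d} : Set G))).subtype = E0 :=
    Subgroup.map_subgroupOf_eq_of_le hE0S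
  have hM0el : IsElementaryAbelian 2 M0 := by
    refine ⟨⟨⟨fun a b => Subtype.ext (Subtype.ext ?_)⟩⟩, fun a ha => Subtype.ext ?_⟩
    · exact (comm_of_sq hE0sq a.2 b.2).eq
    · simpa [pow_two] using hE0sq a.1 ha
  have hM0card : Nat.card ↥M0 = 2 ^ 11 := by
    rw [← hE0card, ← hmap0, Subgroup.card_map_of_injective Subtype.val_injective]
  have hset : maxElementaryAbelianSubgroups 2 ↥(S : Subgroup ↥(Subgroup.centralizer ({d} : Set G))) = {M0} := by
    ext M
    constructor
    · rintro ⟨hM, hmax⟩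
      have h1 := hmax M0 hM0el
      refine Subgroup.map_injective Subtype.val_injective ((huniq _ (Subgroup.map_subtype_le M) ?_ ?_).trans hmap0.symm)
      · rintro _ ⟨x, hx, rfl⟩
        rw [← pow_two, ← map_pow, hM.2 x hx, map_one]
      · rw [Subgroup.card_map_of_injective Subtype.val_injective]; omega
    · rintro rfl
      refine ⟨hM0el, fun B hB' => ?_⟩
      rw [hM0card, ← Subgroup.card_map_of_injective (K := B)
        (f := (S : Subgroup ↥(Subgroup.centralizer ({d} : Set G))).subtype) Subtype.val_injective]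
      refine (hS.image_facts ?_).1
      rintro _ ⟨x, hx, rfl⟩
      rw [← pow_two, ← map_pow, hB'.2 x hx, map_one]
  rw [thompsonSubgroupOf, thompsonSubgroup, hset, sSup_singleton, hmap0, lift22, ← hE0eq]

end Setup22

end Cfsg.Agent.Lib.M22Cover2
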