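import Cfsg.Agent.Lib.Fischer3T52.Radical.Classify

/-!
# `PSU₆(2)`: the radicals of plane stabilisers are moved to each other with their frames
-/

set_option autoImplicit false

namespace Cfsg.Agent.Lib.M22Cover2

open Cfsg Cfsg.Agent.Lib.PSUAut Cfsg.Agent.Lib.ThreeTransp Cfsg.Agent.Lib.ThreeTransp.PSUSix
open Cfsg.Agent.Lib.M22Struct66
open Cfsg.Agent.Lib.Fischer3T52.Radical

variable {F : Type} [Field F] [Fintype F]

local notation "V" => (Fin 6 → F)
local notation "B" => Cfsg.hermForm 6 F 2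
local notation "SU6" => (SUType 6 F 2)

variable (hF : Fintype.card F = 4) {e f : Fin 3 → Fin 6 → F} (hfr : IsFrame e f)

omit hF in
theorem act_inv_cancel (t : SU6) (v : V) : act t (act t⁻¹ v) = v := by
  rw [← act_mul, mul_inv_cancel, act_one]

omit hF in
theorem act_inv_cancel' (t : SU6) (v : V) : act t⁻¹ (act t v) = v := by
  rw [← act_mul, inv_mul_cancel, act_one]

include hfr

/-- A frame moved by an element of `SU₆(2)`. -/
theorem frame_act (t : SU6) : IsFrame (fun i => act t (e i)) fun i => act t (f i) :=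
  ⟨fun i j => (act_form t _ _).trans (hfr.ee i j), fun i j => (act_form t _ _).trans (hfr.ff i j),
    fun i j => (act_form t _ _).trans (hfr.ef i j)⟩

include hF

omit hF hfr in
theorem mem_rad_act (t : SU6) (x : Cfsg.PSU 6 F 2) :
    x ∈ rad (fun i => act t (e i)) ↔ (proj t)⁻¹ * x * proj t ∈ rad e := by
  constructor
  · rintro ⟨s, hs, rfl⟩
    refine ⟨t⁻¹ * s * t, fun i => ?_, by simp [map_mul, map_inv]⟩
    rw [act_mul, act_mul, hs i, act_inv_cancel']
  · rintro ⟨s, hs, he⟩
    refine ⟨t * s * t⁻¹, fun i => ?_, ?_⟩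
    · rw [act_mul, act_mul, act_inv_cancel', hs i]
    · rw [map_mul, map_mul, map_inv, he]; group

/-- An elementary abelian subgroup of order at least `2^9` is the radical of a plane. -/
theorem exists_rad_eq {E : Subgroup (Cfsg.PSU 6 F 2)} (hsq : ∀ x ∈ E, x * x = 1) (hcard : 512 ≤ Nat.card ↥E) :
    ∃ e' f' : Fin 3 → V, IsFrame e' f' ∧ E = rad e' := by
  obtain ⟨g, hg⟩ := exists_conj_rad hF hfr hsq hcard
  obtain ⟨t, ht⟩ := proj_surjective g⁻¹
  refine ⟨_, _, frame_act hfr t, Subgroup.ext fun x => ?_⟩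
  rw [mem_rad_act, ht, inv_inv]
  exact hg x

/-- An elementary abelian subgroup has order at most `2^9`. -/
theorem card_le_512 {E : Subgroup (Cfsg.PSU 6 F 2)} (hsq : ∀ x ∈ E, x * x = 1) : Nat.card ↥E ≤ 512 := by
  by_contra h
  obtain ⟨e', f', hfr', he⟩ := exists_rad_eq hF hfr hsq (by omega)
  rw [he, card_rad hF hfr'] at h
  omega

/-- The normaliser of a radical. -/
theorem normalizer_rad : Subgroup.normalizer (rad e : Set (Cfsg.PSU 6 F 2)) = nrad e := by
  ext x
  refine ⟨fun hx => mem_nrad hF hfr fun y hy => (Subgroup.mem_normalizer_iff.1 hx y).1 hy,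
    fun hx => Subgroup.mem_normalizer_iff.2 fun y => ⟨conj_rad hF hfr hx, fun hy => ?_⟩⟩
  have := conj_rad hF hfr (inv_mem hx) hy
  simpa [mul_assoc] using this

/-- A plane has 64 vectors, all isotropic. -/
theorem ncard_inM : {v : V | B v v = 0 ∧ InM e v}.ncard = 64 := by
  have h := herm (n := 6) (card' hF)
  have e1 : {v : V | B v v = 0 ∧ InM e v} = Set.range fun c : Fin 3 → F => ∑ k, c k • e k := by
    ext v
    constructor
    · rintro ⟨-, hv⟩; exact ⟨fun k => B v (f k), (eq_sum hF hfr hv).symm⟩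
    · rintro ⟨c, rfl⟩; exact ⟨inM_iso hF hfr (inM_sum hF hfr c), inM_sum hF hfr c⟩
  rw [e1, Set.ncard_range_of_injective, Nat.card_fun, Nat.card_eq_fintype_card (α := F), hF, Nat.card_fin]
  · norm_num
  · intro c c' hc
    funext k
    have := congrArg (fun x => B x (f k)) hc
    rwa [coef_sum hF hfr, coef_sum hF hfr] at this

end Cfsg.Agent.Lib.M22Cover2
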