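import Cfsg.Agent.Lib.M22Cover2.PlanePoints
import Cfsg.Agent.Lib.M22Local2.Eleven
import Cfsg.Agent.Lib.M22Struct66.Main
import Cfsg.Agent.Lib.Fischer3T52.Consumers

/-!
# Type M(22): the elementary abelian subgroups of order `2^10` with a member

Such a subgroup is the preimage of the radical of a plane in the chart at each of its members; it has
22 members and is generated by them.
-/

set_option autoImplicit false

namespace Cfsg.Agent.Lib.M22Cover2

open Cfsg Cfsg.Agent.Lib.PSUAut Cfsg.Agent.Lib.ThreeTransp Cfsg.Agent.Lib.ThreeTransp.PSUSix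
open Cfsg.Agent.Lib.M22Struct66
open Cfsg.Agent.Lib.Fischer3T52.Radical (rad InM)

/-- The standing hypotheses in a group of type M(22). -/
structure Base {U : Type*} [Group U] (D : Set U) (F : Type) [Field F] [Fintype F] : Prop where
  charted : Charted D F
  facts : Facts D
  m22 : IsOfTypeM22 U D

/-- An elementary abelian subgroup of order `2^10` with a member. -/
structure IsRad {U : Type*} [Group U] (D : Set U) (R : Subgroup U) : Prop where
  sq : ∀ x ∈ R, x * x = 1
  card : Nat.card ↥R = 1024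
  has : ∃ e ∈ D, e ∈ R

theorem exists_base {U : Type*} [Group U] [Finite U] {D : Set U} (hD : IsThreeTranspositionClass D)
    (h22 : IsOfTypeM22 U D) : ∃ (F : Type) (_ : Field F) (_ : Fintype F), Base D F := by
  have hG := Fischer3T52.group_of_class hD
  have hP := M23Struct19.primitive_of_m22 hG h22
  obtain ⟨F, i, i', hC⟩ := exists_charted hG hP h22
  exact ⟨F, i, i', hC, facts_of_m22 hG hP h22, h22⟩

variable {U : Type*} [Group U] [Finite U] {D : Set U} {F : Type} [Field F] [Fintype F]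

omit [Finite U] in
theorem comm_of_sq {X : Subgroup U} (hX : ∀ x ∈ X, x * x = 1) {x y : U} (hx : x ∈ X) (hy : y ∈ X) :
    Commute x y := by
  have h1 : ∀ z ∈ X, z⁻¹ = z := fun z hz => inv_eq_of_mul_eq_one_right (hX z hz)
  have := h1 _ (X.mul_mem hx hy)
  rw [mul_inv_rev, h1 x hx, h1 y hy] at this
  exact this.symm

namespace Base

variable (hB : Base D F)
include hB

omit [Finite U] in
theorem sq_mem {d : U} (hd : d ∈ D) : d * d = 1 := mul_self hB.charted.set hd

/-- The subgroup of the centraliser of a member over a plane. -/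
noncomputable def above {d : U} (C : Chart D d F) (e : Fin 3 → Fin 6 → F) : Subgroup U :=
  ((rad e).comap C.ψ).map (Subgroup.closure (nb D d)).subtype

omit [Finite U] hB in
theorem mem_above {d : U} {C : Chart D d F} {e : Fin 3 → Fin 6 → F} {x : U} :
    x ∈ Base.above C e ↔ ∃ h : x ∈ Subgroup.closure (nb D d), C.ψ ⟨x, h⟩ ∈ rad e := by
  constructor
  · rintro ⟨y, hy, rfl⟩; exact ⟨y.2, hy⟩
  · rintro ⟨h, hx⟩; exact ⟨⟨x, h⟩, hx, rfl⟩

omit [Finite U] in
theorem kills {d : U} (hd : d ∈ D) (C : Chart D d F) : C.ψ ⟨d, hB.facts.self_mem d hd⟩ = 1 :=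
  M22Local2.chart_kills hB.facts hB.charted.card hd C _

theorem self_above {d : U} (hd : d ∈ D) (C : Chart D d F) (e : Fin 3 → Fin 6 → F) : d ∈ Base.above C e :=
  mem_above.2 ⟨hB.facts.self_mem d hd, by rw [hB.kills hd C]; exact one_mem _⟩

/-- A neighbour lies over the plane exactly when its point lies on it. -/
theorem nb_mem_above {d : U} (C : Chart D d F) {e f : Fin 3 → Fin 6 → F} (hfr : IsFrame e f) {y : U}
    (hy : y ∈ nb D d) : y ∈ Base.above C e ↔ InM e (C.pt hy) := by
  constructor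
  · intro h
    obtain ⟨h', hm⟩ := mem_above.1 h
    rw [show (⟨y, h'⟩ : ↥(Subgroup.closure (nb D d))) = inc hy from rfl, C.ψ_inc] at hm
    exact Fischer3T52.Radical.inM_of_mem hB.charted.card hfr (C.isPt hy) hm
  · intro h
    refine mem_above.2 ⟨Subgroup.subset_closure hy, ?_⟩
    rw [show (⟨y, Subgroup.subset_closure hy⟩ : ↥(Subgroup.closure (nb D d))) = inc hy from rfl, C.ψ_inc]
    exact Fischer3T52.Radical.mem_rad_point hB.charted.card hfr h

/-- The members over a plane generate what is over it. -/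
theorem above_le_closure {d : U} (hd : d ∈ D) (C : Chart D d F) {e f : Fin 3 → Fin 6 → F} (hfr : IsFrame e f) :
    Base.above C e ≤ Subgroup.closure {y | y ∈ D ∧ y ∈ Base.above C e} := by
  intro x hx
  obtain ⟨h, hm⟩ := mem_above.1 hx
  obtain ⟨l, hl, hp⟩ := Fischer3T52.Radical.exists_list hB.charted.card hfr hm
  set K := (Subgroup.closure {y | y ∈ D ∧ y ∈ Base.above C e}).subgroupOf (Subgroup.closure (nb D d)) with hK
  have hmem : ∀ P ∈ l, P ∈ K.map C.ψ := by
    intro P hP
    obtain ⟨⟨v, hv, rfl⟩, hr⟩ := hl P hP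
    obtain ⟨y, hy, hψ⟩ := C.onto v hv
    refine ⟨inc hy, Subgroup.subset_closure ⟨hy.1, mem_above.2 ⟨Subgroup.subset_closure hy, ?_⟩⟩, hψ⟩
    exact hψ.symm ▸ hr
  obtain ⟨z, hz, hzψ⟩ : C.ψ ⟨x, h⟩ ∈ K.map C.ψ := hp ▸ list_prod_mem hmem
  have hd' : d ∈ Subgroup.closure {y | y ∈ D ∧ y ∈ Base.above C e} :=
    Subgroup.subset_closure ⟨hd, hB.self_above hd C e⟩
  rcases C.ker (z⁻¹ * ⟨x, h⟩) (by rw [map_mul, map_inv, hzψ, inv_mul_cancel]) with k | k
  · change (z : U)⁻¹ * x = 1 at k
    rw [← inv_mul_eq_one.1 k]; exact hz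
  · change (z : U)⁻¹ * x = d at k
    rw [eq_mul_of_inv_mul_eq k]; exact mul_mem hz hd'

theorem isRad_above {d : U} (hd : d ∈ D) (C : Chart D d F) {e f : Fin 3 → Fin 6 → F} (hfr : IsFrame e f) :
    IsRad D (Base.above C e) := by
  have hF := hB.charted.card
  refine ⟨fun x hx => ?_, ?_, d, hd, hB.self_above hd C e⟩
  · set M := {y | y ∈ D ∧ y ∈ Base.above C e}
    have hcomm : ∀ a ∈ M, ∀ b ∈ M, Commute a b := by
      rintro a ⟨ha, ha'⟩ b ⟨hb, hb'⟩
      by_cases hab : a = d
      · subst hab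
        exact (commute_of_mem_closure (mem_above.1 hb').1).symm
      by_cases hbd : b = d
      · subst hbd
        exact commute_of_mem_closure (mem_above.1 ha').1
      have hna : a ∈ nb D d := ⟨ha, hab, (commute_of_mem_closure (mem_above.1 ha').1).symm⟩
      have hnb : b ∈ nb D d := ⟨hb, hbd, (commute_of_mem_closure (mem_above.1 hb').1).symm⟩
      rw [C.commute_iff hF hB.charted.toCtx hna hnb hd]
      have h1 := (hB.nb_mem_above C hfr hna).1 ha'
      have h2 := (hB.nb_mem_above C hfr hnb).1 hb'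
      have h := herm (n := 6) (card' hF)
      rw [Fischer3T52.Radical.eq_sum hF hfr h2]
      simp [Fin.sum_univ_three, h.add_right, h.smul_right, h1 0, h1 1, h1 2]
    have hx' := hB.above_le_closure hd C hfr hx
    let _ : IsMulCommutative ↥(Subgroup.closure M) := Subgroup.isMulCommutative_closure hcomm
    induction hx' using Subgroup.closure_induction with
    | mem y hy => exact hB.sq_mem hy.1
    | one => exact one_mul 1
    | mul y z hy hz iy iz =>
      have hyz : Commute y z := congrArg Subtype.val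
        (IsMulCommutative.is_comm.comm (⟨y, hy⟩ : ↥(Subgroup.closure M)) ⟨z, hz⟩)
      rw [hyz.symm.mul_mul_mul_comm, iy (by
        exact (Subgroup.closure_le _).2 (fun w hw => hw.2) hy), iz (by
        exact (Subgroup.closure_le _).2 (fun w hw => hw.2) hz), one_mul]
    | inv y hy iy =>
      rw [← mul_inv_rev, iy ((Subgroup.closure_le _).2 (fun w hw => hw.2) hy), inv_one]
  · rw [Base.above, Subgroup.card_map_of_injective (Subgroup.subtype_injective _)]
    have h1 := Subgroup.card_mul_index ((rad e).comap C.ψ)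
    have hcH : Nat.card ↥(Subgroup.closure (nb D d)) = 18393661440 := by
      rw [← hB.facts.centralizer_eq d hd, hB.facts.card_centralizer d hd]
    rw [Subgroup.index_comap_of_surjective _ C.surj, hcH] at h1
    have h2 := Subgroup.card_mul_index (rad e)
    rw [Fischer3T52.Radical.card_rad hF hfr, card_psu6 hF] at h2
    have hidx : (rad e).index = 17962560 := by omega
    rw [hidx] at h1
    omega

/-- A square-one subgroup with a member has order at most `2^10`; if it is attained it lies over a plane. -/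
theorem exists_above {d : U} (hd : d ∈ D) (C : Chart D d F) {X : Subgroup U} (hX : ∀ x ∈ X, x * x = 1)
    (hdX : d ∈ X) :
    Nat.card ↥X ≤ 1024 ∧ (1024 ≤ Nat.card ↥X →
      ∃ e f : Fin 3 → Fin 6 → F, IsFrame e f ∧ X = Base.above C e) := by
  have hF := hB.charted.card
  obtain ⟨e₀, f₀, hfr₀⟩ := exists_frame_any hF
  set H := Subgroup.closure (nb D d) with hH
  have hXH : X ≤ H := fun x hx => by
    rw [hH, ← hB.facts.centralizer_eq d hd]
    exact Subgroup.mem_centralizer_singleton_iff.2 (comm_of_sq hX hx hdX).eq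
  set φ := C.ψ.comp (Subgroup.inclusion hXH) with hφ
  have hsq : ∀ y ∈ φ.range, y * y = 1 := by
    rintro _ ⟨x, rfl⟩
    rw [← map_mul, show x * x = 1 from Subtype.ext (hX x x.2), map_one]
  have hker : Nat.card ↥φ.ker ≤ 2 := by
    rw [← SetLike.coe_sort_coe, Nat.card_coe_set_eq]
    refine (Set.ncard_le_ncard (t := {(1 : ↥X), ⟨d, hdX⟩}) fun z hz => ?_).trans
      ((Set.ncard_insert_le _ _).trans (by simp))
    rcases C.ker _ hz with k | k
    · exact Or.inl (Subtype.ext k)
    · exact Or.inr (Subtype.ext k)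
  have hmul := Subgroup.card_mul_index φ.ker
  rw [Subgroup.index_ker] at hmul
  have hr := card_le_512 hF hfr₀ hsq
  refine ⟨hmul ▸ (Nat.mul_le_mul hker hr), fun hbig => ?_⟩
  have h512 : 512 ≤ Nat.card ↥φ.range := by
    by_contra hlt
    have := Nat.mul_le_mul hker (show Nat.card ↥φ.range ≤ 511 by omega)
    omega
  obtain ⟨e, f, hfr, he⟩ := exists_rad_eq hF hfr₀ hsq h512
  refine ⟨e, f, hfr, Subgroup.eq_of_le_of_card_ge (fun x hx => mem_above.2 ⟨hXH hx, ?_⟩) ?_⟩
  · rw [← he]; exact ⟨⟨x, hx⟩, rfl⟩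
  · rw [(hB.isRad_above hd C hfr).card]; exact hbig

theorem card_le {X : Subgroup U} (hX : ∀ x ∈ X, x * x = 1) {d : U} (hd : d ∈ D) (hdX : d ∈ X) :
    Nat.card ↥X ≤ 1024 :=
  (hB.exists_above hd (hB.charted.chart d hd).some hX hdX).1

theorem isRad_of_le {X : Subgroup U} (hX : ∀ x ∈ X, x * x = 1) {d : U} (hd : d ∈ D) (hdX : d ∈ X)
    (hc : 1024 ≤ Nat.card ↥X) : IsRad D X :=
  ⟨hX, le_antisymm (hB.card_le hX hd hdX) hc, d, hd, hdX⟩

/-- A radical lies over a plane at each of its members. -/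
theorem rad_eq_above {R : Subgroup U} (hR : IsRad D R) {d : U} (hd : d ∈ D) (hdR : d ∈ R) (C : Chart D d F) :
    ∃ e f : Fin 3 → Fin 6 → F, IsFrame e f ∧ R = Base.above C e :=
  (hB.exists_above hd C hR.sq hdR).2 hR.card.ge

theorem gen {R : Subgroup U} (hR : IsRad D R) : R ≤ Subgroup.closure {y | y ∈ D ∧ y ∈ R} := by
  obtain ⟨d, hd, hdR⟩ := hR.has
  obtain ⟨C⟩ := hB.charted.chart d hd
  obtain ⟨e, f, hfr, rfl⟩ := hB.rad_eq_above hR hd hdR C
  exact hB.above_le_closure hd C hfr

/-- A radical has 22 members. -/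
theorem ncard_members {R : Subgroup U} (hR : IsRad D R) : {y | y ∈ D ∧ y ∈ R}.ncard = 22 := by
  obtain ⟨d, hd, hdR⟩ := hR.has
  obtain ⟨C⟩ := hB.charted.chart d hd
  obtain ⟨e, f, hfr, rfl⟩ := hB.rad_eq_above hR hd hdR C
  have hF := hB.charted.card
  have h := herm (n := 6) (card' hF)
  have h21 := C.count hF hB.charted.toCtx hd {y | y ∈ nb D d ∧ y ∈ Base.above C e} (fun y hy => hy.1)
    (InM e) (fun x hx => ⟨fun hm => (hB.nb_mem_above C hfr hx).1 hm.2,
      fun hm => ⟨hx, (hB.nb_mem_above C hfr hx).2 hm⟩⟩)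
    (fun a ha v => forall_congr' fun j => by simp [h.smul_left, ha]) (fun j => h.zero_left _)
  rw [ncard_inM hF hfr] at h21
  have hset : {y | y ∈ D ∧ y ∈ Base.above C e} = insert d {y | y ∈ nb D d ∧ y ∈ Base.above C e} := by
    ext y
    constructor
    · rintro ⟨hy, hy'⟩
      by_cases hyd : y = d
      · exact Or.inl hyd
      · exact Or.inr ⟨⟨hy, hyd, (commute_of_mem_closure (mem_above.1 hy').1).symm⟩, hy'⟩
    · rintro (rfl | ⟨hy, hy'⟩)
      · exact ⟨hd, hB.self_above hd C e⟩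
      · exact ⟨hy.1, hy'⟩
  rw [hset, Set.ncard_insert_of_notMem fun hm => hm.1.2.1 rfl]
  omega

/-- A radical is its own centraliser. -/
theorem self_centralizing {R : Subgroup U} (hR : IsRad D R) {x : U} (hx : ∀ y ∈ R, x * y = y * x) :
    x ∈ R := by
  obtain ⟨d, hd, hdR⟩ := hR.has
  obtain ⟨C⟩ := hB.charted.chart d hd
  obtain ⟨e, f, hfr, rfl⟩ := hB.rad_eq_above hR hd hdR C
  have hxH : x ∈ Subgroup.closure (nb D d) := hB.facts.centralizer_eq d hd ▸
    Subgroup.mem_centralizer_singleton_iff.2 (hx d hdR)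
  refine mem_above.2 ⟨hxH, Fischer3T52.Radical.mem_rad_of_commute hB.charted.card hfr fun U' hU' => ?_⟩
  obtain ⟨y, rfl⟩ := C.surj U'
  rw [← map_mul, ← map_mul]
  exact congrArg C.ψ (Subtype.ext (hx y (mem_above.2 ⟨y.2, hU'⟩)))

/-- Commuting members lie in a common radical. -/
theorem exists_rad_of_commute {a b c : U} (ha : a ∈ D) (hb : b ∈ D) (hc : c ∈ D) (hab : Commute a b)
    (hac : Commute a c) (hbc : Commute b c) : ∃ R, IsRad D R ∧ a ∈ R ∧ b ∈ R ∧ c ∈ R := by
  obtain ⟨C⟩ := hB.charted.chart a ha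
  have hF := hB.charted.card
  have h := herm (n := 6) (card' hF)
  suffices hs : ∃ e f : Fin 3 → Fin 6 → F, IsFrame e f ∧ (∀ hb' : b ∈ nb D a, InM e (C.pt hb')) ∧
      (∀ hc' : c ∈ nb D a, InM e (C.pt hc')) by
    obtain ⟨e, f, hfr, h1, h2⟩ := hs
    refine ⟨Base.above C e, hB.isRad_above ha C hfr, hB.self_above ha C e, ?_, ?_⟩
    · by_cases hba : b = a
      · rw [hba]; exact hB.self_above ha C e
      · exact (hB.nb_mem_above C hfr ⟨hb, hba, hab⟩).2 (h1 ⟨hb, hba, hab⟩)
    · by_cases hca : c = a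
      · rw [hca]; exact hB.self_above ha C e
      · exact (hB.nb_mem_above C hfr ⟨hc, hca, hac⟩).2 (h2 ⟨hc, hca, hac⟩)
  by_cases hb' : b ∈ nb D a
  · by_cases hc' : c ∈ nb D a
    · have horth := (C.commute_iff hF hB.charted.toCtx hc' hb' ha).1 hbc.symm
      by_cases hline : ∃ r : F, C.pt hc' = r • C.pt hb'
      · obtain ⟨r, hr⟩ := hline
        obtain ⟨e, f, hfr, he⟩ := exists_frame_one hF (C.isPt hb').1 (C.isPt hb').2
        refine ⟨e, f, hfr, fun _ j => he ▸ hfr.ee 0 j, fun _ j => ?_⟩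
        rw [hr, h.smul_left, ← he, hfr.ee, mul_zero]
      · push Not at hline
        obtain ⟨e, f, k, hfr, he, hq⟩ := exists_frame_orth hF (C.isPt hb').1 (C.isPt hb').2 (C.isPt hc').2
          horth hline
        refine ⟨e, f, hfr, fun _ j => he ▸ hfr.ee 0 j, fun _ j => ?_⟩
        rw [hq, ← he, h.add_left, h.smul_left, hfr.ee, hfr.ee, mul_zero, add_zero]
    · obtain ⟨e, f, hfr, he⟩ := exists_frame_one hF (C.isPt hb').1 (C.isPt hb').2
      exact ⟨e, f, hfr, fun _ j => he ▸ hfr.ee 0 j, fun h' => absurd h' hc'⟩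
  · by_cases hc' : c ∈ nb D a
    · obtain ⟨e, f, hfr, he⟩ := exists_frame_one hF (C.isPt hc').1 (C.isPt hc').2
      exact ⟨e, f, hfr, fun h' => absurd h' hb', fun _ j => he ▸ hfr.ee 0 j⟩
    · obtain ⟨e, f, hfr⟩ := exists_frame_any hF
      exact ⟨e, f, hfr, fun h' => absurd h' hb', fun h' => absurd h' hc'⟩

end Base

end Cfsg.Agent.Lib.M22Cover2
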