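import Cfsg.Agent.Lib.M22Cover2.Rad

/-!
# Type M(22): one radical in each Sylow 2-subgroup
-/

set_option autoImplicit false

namespace Cfsg.Agent.Lib.M22Cover2

open Cfsg Cfsg.Agent.Lib.PSUAut Cfsg.Agent.Lib.ThreeTransp Cfsg.Agent.Lib.ThreeTransp.PSUSix
open Cfsg.Agent.Lib.M22Struct66

variable {U : Type*} [Group U] [Finite U] {D : Set U} {F : Type} [Field F] [Fintype F]

/-- The image under conjugation. -/
abbrev cjSub {U : Type*} [Group U] (g : U) (R : Subgroup U) : Subgroup U := R.map (MulAut.conj g).toMonoidHom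

omit [Finite U] in
theorem mem_cjSub {g x : U} {R : Subgroup U} : x ∈ cjSub g R ↔ g⁻¹ * x * g ∈ R := by
  constructor
  · rintro ⟨y, hy, rfl⟩
    show g⁻¹ * (g * y * g⁻¹) * g ∈ R
    rwa [show g⁻¹ * (g * y * g⁻¹) * g = y by group]
  · intro h
    exact ⟨_, h, by show g * (g⁻¹ * x * g) * g⁻¹ = x; group⟩

namespace Base

variable (hB : Base D F)
include hB

omit [Finite U] in
theorem conjD (g : U) {x : U} (hx : x ∈ D) : g * x * g⁻¹ ∈ D := hB.charted.conj g x hx

omit [Finite U] in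
theorem isRad_conj {R : Subgroup U} (hR : IsRad D R) (g : U) : IsRad D (cjSub g R) := by
  refine ⟨?_, ?_, ?_⟩
  · rintro _ ⟨x, hx, rfl⟩; rw [← map_mul, hR.sq x hx, map_one]
  · rw [Subgroup.card_map_of_injective (MulAut.conj g).injective, hR.card]
  · obtain ⟨e, he, heR⟩ := hR.has
    exact ⟨g * e * g⁻¹, hB.conjD g he, ⟨e, heR, rfl⟩⟩

/-- A member normalising a radical lies in it. -/
theorem mem_of_normalizes {R : Subgroup U} (hR : IsRad D R) {m : U} (hm : m ∈ D)
    (hn : m ∈ Subgroup.normalizer (R : Set U)) : m ∈ R := by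
  have hS := hB.charted.set
  have hcw : ∀ w, w ∈ D → w ∈ R → Commute m w := by
    intro w hw hwR
    by_contra hc
    have h3 := cube_of_not_commute hS hm hw hc
    have hm' := inv_eq hS hm
    have hwm : m * w * m⁻¹ ∈ R := (Subgroup.mem_normalizer_iff.1 hn w).1 hwR
    have h4 := hR.sq _ (R.mul_mem hwR hwm)
    rw [hm'] at h4
    have hw2 := hB.sq_mem hw
    refine hc ((commute_iff_sq hS hm hw).2 ?_)
    have e4 : (m * w) ^ 4 = 1 := by
      calc (m * w) ^ 4 = m * ((w * (m * w * m)) * (w * (m * w * m))) * m⁻¹ := by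
            rw [hm']; simp only [pow_succ, pow_zero, one_mul, mul_assoc, hB.sq_mem hm, mul_one]
        _ = 1 := by rw [h4, mul_one, mul_inv_cancel]
    rw [pow_succ, h3, one_mul] at e4
    rw [e4, one_pow]
  refine hB.self_centralizing hR fun y hy => ?_
  have : R ≤ Subgroup.centralizer ({m} : Set U) := (hB.gen hR).trans ((Subgroup.closure_le _).2
    fun w hw => Subgroup.mem_centralizer_singleton_iff.2 (hcw w hw.1 hw.2).symm.eq)
  exact (Subgroup.mem_centralizer_singleton_iff.1 (this hy)).symm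

/-- A radical whose members all normalise another one is equal to it. -/
theorem eq_of_normalizes {R Q : Subgroup U} (hR : IsRad D R) (hQ : IsRad D Q)
    (h : Q ≤ Subgroup.normalizer (R : Set U)) : Q = R :=
  Subgroup.eq_of_le_of_card_ge ((hB.gen hQ).trans ((Subgroup.closure_le _).2
    fun _ hw => hB.mem_of_normalizes hR hw.1 (h hw.2))) (hR.card.trans hQ.card.symm).le

/-- A radical in a 2-subgroup is normal in it. -/
theorem normal_in_two {S R : Subgroup U} (hS : IsPGroup 2 ↥S) (hR : IsRad D R) (hRS : R ≤ S) :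
    S ≤ Subgroup.normalizer (R : Set U) := by
  have : Group.IsNilpotent ↥S := hS.isNilpotent
  set T : Subgroup ↥S := (Subgroup.normalizer (R : Set U)).subgroupOf S with hT
  suffices hTop : T = ⊤ from fun s hs => (hTop ▸ Subgroup.mem_top (⟨s, hs⟩ : ↥S) : (⟨s, hs⟩ : ↥S) ∈ T)
  by_contra hne
  obtain ⟨g, hgn, hgT⟩ := SetLike.exists_of_lt (Group.normalizerCondition_of_isNilpotent T (lt_top_iff_ne_top.2 hne))
  refine hgT ?_
  have hle : cjSub (g : U) R ≤ Subgroup.normalizer (R : Set U) := by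
    rintro _ ⟨r, hr, rfl⟩
    exact (Subgroup.mem_normalizer_iff.1 hgn ⟨r, hRS hr⟩).1 (Subgroup.le_normalizer hr)
  have heq := hB.eq_of_normalizes hR (hB.isRad_conj hR (g : U)) hle
  exact Subgroup.mem_subgroupOf.2 (Subgroup.mem_normalizer_iff_map_conj_eq.2 heq)

/-- A 2-subgroup contains at most one radical. -/
theorem eq_in_two {S R Q : Subgroup U} (hS : IsPGroup 2 ↥S) (hR : IsRad D R) (hQ : IsRad D Q) (hRS : R ≤ S)
    (hQS : Q ≤ S) : Q = R :=
  hB.eq_of_normalizes hR hQ (hQS.trans (hB.normal_in_two hS hR hRS))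

omit hB [Finite U] in
theorem rad_pGroup {R : Subgroup U} (hR : IsRad D R) : IsPGroup 2 ↥R :=
  IsPGroup.of_card (n := 10) (hR.card.trans (by norm_num))

/-- Two radicals centralising an element are conjugate in its centraliser. -/
theorem exists_conj_centralizer {R Q : Subgroup U} (hR : IsRad D R) (hQ : IsRad D Q) (W : Subgroup U)
    (hRW : R ≤ W) (hQW : Q ≤ W) : ∃ c ∈ W, cjSub c Q = R := by
  have hp : ∀ {X : Subgroup U}, IsRad D X → X ≤ W → IsPGroup 2 ↥(X.subgroupOf W) := fun hX hXW =>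
    IsPGroup.of_card (n := 10)
      ((Nat.card_congr (Subgroup.subgroupOfEquivOfLe hXW).toEquiv).trans (hX.card.trans (by norm_num)))
  obtain ⟨P₁, h₁⟩ := (hp hR hRW).exists_le_sylow
  obtain ⟨P₂, h₂⟩ := (hp hQ hQW).exists_le_sylow
  obtain ⟨c, hc⟩ := MulAction.exists_smul_eq ↥W P₂ P₁
  refine ⟨c, c.2, hB.eq_in_two (S := (P₁ : Subgroup ↥W).map W.subtype) ?_ hR (hB.isRad_conj hQ _) ?_ ?_⟩
  · exact P₁.2.map W.subtype
  · exact fun r hr => ⟨⟨r, hRW hr⟩, h₁ hr, rfl⟩
  · rintro _ ⟨q, hq, rfl⟩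
    refine ⟨c * ⟨q, hQW hq⟩ * c⁻¹, ?_, rfl⟩
    rw [← hc]
    exact Subgroup.smul_mem_pointwise_smul _ (MulAut.conj c) _ (h₂ (show (⟨q, hQW hq⟩ : ↥W) ∈ Q.subgroupOf W from hq))

/-- All radicals are conjugate. -/
theorem exists_conj_eq {R Q : Subgroup U} (hR : IsRad D R) (hQ : IsRad D Q) : ∃ c, cjSub c Q = R := by
  obtain ⟨c, -, h⟩ := hB.exists_conj_centralizer hR hQ ⊤ le_top le_top
  exact ⟨c, h⟩

/-- Conjugate elements of a radical are conjugate under its normaliser. -/
theorem fusion {R : Subgroup U} (hR : IsRad D R) {x y : U} (hx : x ∈ R) (hy : y ∈ R) (h : IsConj x y) :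
    ∃ n ∈ Subgroup.normalizer (R : Set U), n * x * n⁻¹ = y := by
  obtain ⟨g, hg⟩ := isConj_iff.1 h
  have hRW : ∀ {X : Subgroup U}, IsRad D X → y ∈ X → X ≤ Subgroup.centralizer ({y} : Set U) :=
    fun hX hyX r hr => Subgroup.mem_centralizer_singleton_iff.2 (comm_of_sq hX.sq hr hyX).eq
  have hQ := hB.isRad_conj hR g
  obtain ⟨c, hc, hcQ⟩ := hB.exists_conj_centralizer hR hQ _ (hRW hR hy) (hRW hQ ⟨x, hx, hg⟩)
  refine ⟨c * g, Subgroup.mem_normalizer_iff_map_conj_eq.2 ?_, ?_⟩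
  · refine Eq.trans ?_ hcQ
    rw [cjSub, cjSub, Subgroup.map_map]
    congr 1
    ext z
    show c * g * z * (c * g)⁻¹ = c * (g * z * g⁻¹) * c⁻¹
    group
  · rw [show c * g * x * (c * g)⁻¹ = c * (g * x * g⁻¹) * c⁻¹ by group, hg,
      Subgroup.mem_centralizer_singleton_iff.1 hc, mul_inv_cancel_right]

/-- The normaliser has order `2^10 * 443520`. -/
theorem card_normalizer {R : Subgroup U} (hR : IsRad D R) :
    Nat.card ↥(Subgroup.normalizer (R : Set U)) = 2 ^ 10 * 443520 := by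
  obtain ⟨d, hd, hdR⟩ := hR.has
  set N := Subgroup.normalizer (R : Set U) with hN
  let _ : MulAction ↥N U := MulAction.compHom U (ConjAct.toConjAct.toMonoidHom.comp N.subtype)
  have hsm : ∀ (n : ↥N) (x : U), n • x = (n : U) * x * (n : U)⁻¹ := fun n x => ConjAct.toConjAct_smul _ _
  have horb : MulAction.orbit ↥N d = {y | y ∈ D ∧ y ∈ R} := by
    ext y
    constructor
    · rintro ⟨n, rfl⟩
      show n • d ∈ _
      rw [hsm]
      exact ⟨hB.conjD _ hd, (Subgroup.mem_normalizer_iff.1 n.2 d).1 hdR⟩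
    · rintro ⟨hy, hyR⟩
      obtain ⟨g, hg⟩ := hB.charted.prim.1 d hd y hy
      obtain ⟨n, hn, hny⟩ := hB.fusion hR hdR hyR (isConj_iff.2 ⟨g, hg⟩)
      exact ⟨⟨n, hn⟩, (hsm ⟨n, hn⟩ d).trans hny⟩
  have h1 := Subgroup.card_mul_index (MulAction.stabilizer ↥N d)
  rw [MulAction.index_stabilizer, horb, hB.ncard_members hR] at h1
  obtain ⟨C⟩ := hB.charted.chart d hd
  obtain ⟨e, f, hfr, rfl⟩ := hB.rad_eq_above hR hd hdR C
  set H := Subgroup.closure (nb D d) with hH
  have hRH : ∀ x ∈ Base.above C e, x ∈ H := fun x hx => (mem_above.1 hx).1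
  have hstH : ∀ n : ↥N, n ∈ MulAction.stabilizer ↥N d ↔ (n : U) ∈ H := fun n => by
    rw [MulAction.mem_stabilizer_iff, hsm, mul_inv_eq_iff_eq_mul, hH, ← hB.facts.centralizer_eq d hd,
      Subgroup.mem_centralizer_singleton_iff]
  have e2 : Nat.card ↥(MulAction.stabilizer ↥N d) =
      Nat.card ↥((Fischer3T52.Radical.nrad e).comap C.ψ) := by
    have hiff : ∀ y : ↥H, (y : U) ∈ N ↔ C.ψ y ∈ Fischer3T52.Radical.nrad e := by
      intro y
      rw [← normalizer_rad hB.charted.card hfr, hN, Subgroup.mem_normalizer_iff, Subgroup.mem_normalizer_iff]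
      constructor
      · intro hy P
        obtain ⟨z, rfl⟩ := C.surj P
        rw [← map_inv, ← map_mul, ← map_mul]
        have := hy z
        rw [mem_above, mem_above] at this
        exact ⟨fun hz => (this.1 ⟨z.2, hz⟩).2, fun hz => (this.2 ⟨(y * z * y⁻¹).2, hz⟩).2⟩
      · intro hy z
        rw [mem_above, mem_above]
        constructor
        · rintro ⟨hz, hm⟩
          refine ⟨H.mul_mem (H.mul_mem y.2 hz) (H.inv_mem y.2), ?_⟩
          have := (hy _).1 hm
          rwa [← map_inv, ← map_mul, ← map_mul] at this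
        · rintro ⟨hz, hm⟩
          have hz' : z ∈ H := by
            have := H.mul_mem (H.mul_mem (H.inv_mem y.2) hz) y.2
            rwa [show (y : U)⁻¹ * ((y : U) * z * (y : U)⁻¹) * (y : U) = z by group] at this
          refine ⟨hz', (hy _).2 ?_⟩
          rw [← map_inv, ← map_mul, ← map_mul]
          exact hm
    refine Nat.card_congr ⟨fun n => ⟨⟨n.1.1, (hstH n.1).1 n.2⟩, (hiff _).1 n.1.2⟩,
      fun y => ⟨⟨y.1.1, (hiff y.1).2 y.2⟩, (hstH _).2 y.1.2⟩, ?_, ?_⟩
    · intro n; rfl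
    · intro y; rfl
  have e3 := Subgroup.card_mul_index ((Fischer3T52.Radical.nrad e).comap C.ψ)
  have hcH : Nat.card ↥H = 18393661440 := by
    rw [hH, ← hB.facts.centralizer_eq d hd, hB.facts.card_centralizer d hd]
  rw [Subgroup.index_comap_of_surjective _ C.surj, hcH] at e3
  have e4 := Subgroup.card_mul_index (Fischer3T52.Radical.nrad e)
  rw [Fischer3T52.Radical.card_nrad hB.charted.card hfr, card_psu6 hB.charted.card] at e4
  have hidx : (Fischer3T52.Radical.nrad e).index = 891 := by omega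
  rw [hidx] at e3
  rw [e2] at h1
  omega

end Base

end Cfsg.Agent.Lib.M22Cover2
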